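import Cfsg.Agent.Lib.Helper11.PStable
import Cfsg.Agent.S0653

set_option autoImplicit false

namespace Cfsg.Agent.Lib.Helper11

open Subgroup Cfsg Cfsg.Agent.Lib.Lead
open scoped commutatorElement

variable {G : Type*} [Group G]

theorem StabElt.isPStableOn {p : ℕ} (h : StabElt p G) (V : Subgroup G) [hV : V.Normal]
    (hVp : IsPGroup p V) : IsPStableOn p V := by
  intro a hq
  have htop : normalizer (V : Set G) = ⊤ := normalizer_eq_top_iff.2 hV
  have h1 := h V a hVp (by rw [htop]; exact mem_top _) ((le_pCore hV hVp).trans (pCore_le_pPrimePCore p G))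
    inferInstance hq
  rw [htop] at h1
  exact (mk_mem_pCore_iff_inOpMod p _ a).2 h1

/-- `p`-constraint in element form. -/
theorem mem_pPrimePCore_of_isPConstrained [Finite G] {p : ℕ} [Fact p.Prime] (hc : IsPConstrained p G)
    {x : G} (hx : ∀ t ∈ pPrimePCore p G, x * t * x⁻¹ * t⁻¹ ∈ pPrimeCore p G) : x ∈ pPrimePCore p G := by
  set T := pPrimePCore p G with hT
  set K := pPrimeCore p G with hK
  set π := QuotientGroup.mk' K with hπ
  have hTn : T.Normal := by rw [hT]; unfold pPrimePCore; infer_instance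
  obtain ⟨P, hP, hPV, hKP⟩ := exists_pGroup_lift (pCore_isPGroup p (G ⧸ pPrimeCore p G))
  have hKPT : K ⊔ P = T := hKP
  have hPT : P ≤ T := by rw [← hKPT]; exact le_sup_right
  have hn : (K ⊔ P).Normal := by rw [hKPT]; exact hTn
  obtain ⟨k, hk, n, hn', rfl⟩ := exists_mul_of_frattini hP hn x
  have hKT : K ≤ T := by rw [← hKPT]; exact le_sup_left
  apply mul_mem (hKT hk)
  -- `P` is a Sylow subgroup of `T`
  have hidx : ¬ p ∣ (P.subgroupOf T).index := by
    have h1 : P.relIndex T ∣ Nat.card K := by
      have h2 : Nat.card T ∣ Nat.card P * Nat.card K := by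
        rw [← hKPT, sup_comm]; exact card_sup_dvd P K
      have h3 := relIndex_mul_relIndex ⊥ P T bot_le hPT
      rw [relIndex_bot_left, relIndex_bot_left] at h3
      rw [← h3] at h2
      exact Nat.dvd_of_mul_dvd_mul_left Nat.card_pos h2
    intro h4
    have h5 : p ∣ Nat.card K := h4.trans h1
    have h6 := card_pPrimeCore_coprime (G := G) p
    exact (Nat.Prime.coprime_iff_not_dvd Fact.out).1 h6.symm h5
  have hPp : IsPGroup p (P.subgroupOf T) := hP.comap_of_injective _ T.subtype_injective
  have h7 := hc (hPp.toSylow hidx)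
  have h8 : ((hPp.toSylow hidx : Sylow p ↥T) : Subgroup ↥T).map T.subtype = P := by
    rw [IsPGroup.toSylow_coe]
    exact map_subgroupOf_eq_of_le hPT
  rw [h8] at h7
  apply h7
  rw [← mk_mem_centralizer_map_iff hP hn', mem_centralizer_iff]
  rintro _ ⟨u, hu, rfl⟩
  have h9 := hx u (hPT hu)
  have h10 : π (k * n * u * (k * n)⁻¹ * u⁻¹) = 1 := (QuotientGroup.eq_one_iff _).2 h9
  have h11 : π k = 1 := (QuotientGroup.eq_one_iff _).2 hk
  simp only [map_mul, map_inv, h11, one_mul] at h10
  have h12 : π n * π u * (π n)⁻¹ = π u := by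
    rw [mul_inv_eq_one] at h10; exact h10
  calc π u * π n = (π n * π u * (π n)⁻¹) * π n := by rw [h12]
    _ = π n * π u := by group

theorem centralizer_pCore_quotient_le [Finite G] {p : ℕ} [Fact p.Prime] (hc : IsPConstrained p G) :
    centralizer (pCore p (G ⧸ pPrimeCore p G) : Set (G ⧸ pPrimeCore p G)) ≤
      pCore p (G ⧸ pPrimeCore p G) := by
  intro y hy
  obtain ⟨x, rfl⟩ := QuotientGroup.mk'_surjective _ y
  have h : x ∈ pPrimePCore p G := by
    apply mem_pPrimePCore_of_isPConstrained hc
    intro t ht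
    rw [← QuotientGroup.eq_one_iff]
    have h1 := (mem_centralizer_iff.1 hy) _ (show QuotientGroup.mk' (pPrimeCore p G) t ∈ _ from ht)
    change QuotientGroup.mk' (pPrimeCore p G) (x * t * x⁻¹ * t⁻¹) = 1
    rw [map_mul, map_mul, map_mul, ← h1, map_inv, map_inv]
    group
  exact h

/-! ### transport of `Z(J(P))` along injective homomorphisms -/

theorem interMax_comm_range {S₀ G' : Type*} [Group S₀] [Finite S₀] [Group G'] (j : S₀ →* G')
    (hj : Function.Injective j) :
    interMax (fun A : Subgroup G' => IsMulCommutative A) j.range =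
      (interMax (fun A : Subgroup S₀ => IsMulCommutative A) ⊤).map j := by
  have ha : ∀ A : Subgroup S₀, IsMaxIn (fun A : Subgroup S₀ => IsMulCommutative A) ⊤ A →
      IsMaxIn (fun A : Subgroup G' => IsMulCommutative A) j.range (A.map j) := by
    rintro A ⟨-, h2, h3⟩
    refine ⟨map_le_range j A, by have := h2; infer_instance, ?_⟩
    intro C hC hCc
    have h4 := h3 (C.comap j) le_top (by have := hCc; exact comap_injective_isMulCommutative (H := C) hj)
    rw [card_map_of_injective hj]
    rwa [← card_map_of_injective hj, map_comap_eq_self hC] at h4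
  have hb : ∀ B : Subgroup G', IsMaxIn (fun A : Subgroup G' => IsMulCommutative A) j.range B →
      IsMaxIn (fun A : Subgroup S₀ => IsMulCommutative A) ⊤ (B.comap j) := by
    rintro B ⟨h1, h2, h3⟩
    refine ⟨le_top, by have := h2; exact comap_injective_isMulCommutative (H := B) hj, ?_⟩
    intro C _ hCc
    have h4 := h3 (C.map j) (map_le_range j C) (by have := hCc; infer_instance)
    rw [card_map_of_injective hj] at h4
    rwa [← card_map_of_injective (K := B.comap j) hj, map_comap_eq_self h1]
  obtain ⟨A₀, hA₀⟩ := exists_isMaxIn (fun A : Subgroup S₀ => IsMulCommutative A) inferInstance ⊤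
  unfold interMax
  apply le_antisymm
  · intro x hx
    rw [mem_sInf] at hx
    obtain ⟨a, -, rfl⟩ := hx _ (ha A₀ hA₀)
    refine mem_map_of_mem j ?_
    rw [mem_sInf]
    intro A hA
    exact (mem_map_iff_mem hj).1 (hx _ (ha A hA))
  · rintro _ ⟨a, ha', rfl⟩
    rw [SetLike.mem_coe, mem_sInf] at ha'
    rw [mem_sInf]
    intro B hB
    exact ha' _ (hb B hB)

theorem centerThompsonAOf_map {G' : Type*} [Group G'] [Finite G] [Finite G'] (f : G →* G')
    (S : Subgroup G) (hS : S ⊓ f.ker = ⊥) :
    centerThompsonAOf (S.map f) = (centerThompsonAOf S).map f := by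
  rw [Cfsg.Agent.S0653.centerThompsonAOf_eq, Cfsg.Agent.S0653.centerThompsonAOf_eq]
  have h1 := interMax_comm_range S.subtype S.subtype_injective
  have hinj : Function.Injective (f.comp S.subtype) := by
    rw [injective_iff_map_eq_one]
    intro x hx
    have h3 : (x : G) ∈ S ⊓ f.ker := mem_inf.2 ⟨x.2, hx⟩
    rw [hS, mem_bot] at h3
    exact Subtype.ext h3
  have h2 := interMax_comm_range (f.comp S.subtype) hinj
  rw [S.range_subtype] at h1
  rw [MonoidHom.range_eq_map, ← Subgroup.map_map, ← MonoidHom.range_eq_map, S.range_subtype] at h2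
  rw [h1, h2, Subgroup.map_map]

end Cfsg.Agent.Lib.Helper11
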