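import Cfsg.Agent.Lib.Helper11.ZJ
import Cfsg.Agent.Lib.Helper11.EA
import Cfsg.Agent.S0649
import Cfsg.Agent.S0650

set_option autoImplicit false

namespace Cfsg.Agent.Lib.Helper11

open Subgroup Cfsg
open scoped commutatorElement

/-- If no element of the Sylow subgroup `P` acts quadratically and nontrivially on `U`, and `H` acts `p`-stably on
the normal closure `N` of `U`, then no element of `P` acts quadratically and nontrivially on `N`. -/
theorem quadratic_core {H : Type*} [Group H] [Finite H] {p : ℕ} [Fact p.Prime] (P : Sylow p H)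
    (U : Subgroup H) (hst : IsPStableOn p (normalClosure (U : Set H)))
    (hQ : ∀ y ∈ P, ⁅⁅U, zpowers y⁆, zpowers y⁆ = ⊥ → ⁅U, zpowers y⁆ = ⊥) :
    ∀ y ∈ P, ⁅⁅normalClosure (U : Set H), zpowers y⁆, zpowers y⁆ = ⊥ →
      ⁅normalClosure (U : Set H), zpowers y⁆ = ⊥ := by
  intro y hyP hy'
  set N := normalClosure (U : Set H) with hN
  obtain ⟨K, hKn, hCK, ⟨k, hk⟩, hK⟩ := exists_normal_of_isPStableOn N hst
  have hyK : y ∈ K := hK _ hy'
  set T := (P : Subgroup H) ⊓ K with hT
  have hyT : y ∈ T := mem_inf.2 ⟨hyP, hyK⟩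
  set s : Set H := {g | ∃ h ∈ normalizer (T : Set H), ∃ u ∈ U, g = h * u * h⁻¹} with hs
  set R := closure s with hR
  have hRN : R ≤ N := by
    rw [hR, closure_le]
    rintro _ ⟨h, -, u, hu, rfl⟩
    exact (normalClosure_normal).conj_mem u (le_normalClosure hu) h
  have h1 : normalizer (T : Set H) ≤ normalizer (R : Set H) := by
    rw [hR, le_normalizer_closure_iff]
    rintro h' hh' _ ⟨h, hh, u, hu, rfl⟩
    apply Subgroup.subset_closure
    exact ⟨h' * h, mul_mem hh' hh, u, hu, by group⟩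
  have h2 : centralizer (N : Set H) ≤ normalizer (R : Set H) :=
    (centralizer_le hRN).trans (centralizer_le_normalizer _)
  have hKle : K ≤ centralizer (N : Set H) ⊔ T := le_sup_sylow_inf_of_relIndex P K _ k hk
  have htop : normalizer (R : Set H) = ⊤ := by
    rw [eq_top_iff, ← normalizer_sylow_inf_sup_eq_top P K]
    exact sup_le h1 (hKle.trans (sup_le h2 (le_normalizer.trans h1)))
  have hRn : R.Normal := normalizer_eq_top_iff.1 htop
  have hNR : N ≤ R := by
    apply normalClosure_le_normal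
    intro u hu
    exact Subgroup.subset_closure ⟨1, one_mem _, u, hu, by group⟩
  have hcent : R ≤ centralizer ({y} : Set H) := by
    rw [hR, closure_le]
    rintro _ ⟨h, hh, u, hu, rfl⟩
    have hcT : h⁻¹ * y * h ∈ T := conj_inv_mem_of_mem_normalizer hh hyT
    have hcP : h⁻¹ * y * h ∈ P := (mem_inf.1 hcT).1
    have hquad : ⁅⁅U, zpowers (h⁻¹ * y * h)⁆, zpowers (h⁻¹ * y * h)⁆ = ⊥ := by
      rw [eq_bot_iff]
      have hNc : N.map (MulAut.conj h⁻¹).toMonoidHom = N := Normal.map_conj_eq N h⁻¹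
      have h3 := congrArg (Subgroup.map (MulAut.conj h⁻¹).toMonoidHom) hy'
      rw [map_commutator, map_commutator, hNc, MonoidHom.map_zpowers, Subgroup.map_bot] at h3
      have e : (MulAut.conj h⁻¹).toMonoidHom y = h⁻¹ * y * h := by simp
      rw [e] at h3
      rw [← h3]
      exact commutator_mono (commutator_mono le_normalClosure le_rfl) le_rfl
    have h4 := hQ _ hcP hquad
    rw [commutator_eq_bot_iff_le_centralizer] at h4
    have h6 : (h⁻¹ * y * h) * u = u * (h⁻¹ * y * h) := h4 hu _ (mem_zpowers _)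
    rw [SetLike.mem_coe, mem_centralizer_singleton_iff]
    calc (h * u * h⁻¹) * y = h * (u * (h⁻¹ * y * h)) * h⁻¹ := by group
      _ = h * ((h⁻¹ * y * h) * u) * h⁻¹ := by rw [h6]
      _ = y * (h * u * h⁻¹) := by group
  rw [commutator_eq_bot_iff_le_centralizer, zpowers_eq_closure, centralizer_closure]
  exact hNR.trans hcent

/-- Thompson-type replacement for a normal elementary abelian subgroup `B` (all primes). -/
theorem replacement_EA {S : Type*} [Group S] [Finite S] {p : ℕ} [Fact p.Prime] (hS : IsPGroup p S)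
    (B : Subgroup S) [B.Normal] (hB : IsElementaryAbelian p B)
    (hex : ∃ U ∈ maxElementaryAbelianSubgroups p S, ¬ B ≤ U) :
    ∃ A ∈ maxElementaryAbelianSubgroups p S, ¬ B ≤ A ∧ B ≤ normalizer (A : Set S) := by
  set T : Set (Subgroup S) := {U | U ∈ maxElementaryAbelianSubgroups p S ∧ ¬ B ≤ U} with hT
  have hTne : T.Nonempty := hex
  obtain ⟨A, ⟨hAF, hBnA⟩, hmax⟩ := Set.exists_max_image T (fun U => Nat.card ↥(U ⊓ B)) (Set.toFinite T) hTne
  refine ⟨A, hAF, hBnA, ?_⟩
  by_contra hnot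
  obtain ⟨⟨hAc, hAp⟩, hAmax⟩ := hAF
  have hBc := hB.1
  have hBA : ⁅B, B⁆ ≤ A := by rw [commutator_self_eq_bot_iff.2 hBc]; exact bot_le
  obtain ⟨b, hb, hbN, hbA⟩ := Cfsg.Agent.S0649.result hS B (fun _ => hBc) A hAc hBA hnot
  obtain ⟨h1, h2, h3, h4, h5, -⟩ := Cfsg.Agent.S0650.result hS B (fun _ => hBc) A hAc hBA hnot b hb hbN hbA
  set As := (A ⊓ A.map (MulAut.conj (b⁻¹)).toMonoidHom) ⊔ Subgroup.closure {g : S | ∃ a ∈ A, g = a * b⁻¹ * a⁻¹ * b} with hAs
  have hAscl : As = Subgroup.closure (((A ⊓ A.map (MulAut.conj (b⁻¹)).toMonoidHom : Subgroup S) : Set S) ∪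
      {g : S | ∃ a ∈ A, g = a * b⁻¹ * a⁻¹ * b}) := by
    rw [Subgroup.closure_union, Subgroup.closure_eq]
  have hAsp : ∀ x ∈ As, x ^ p = 1 := by
    intro x hx
    rw [hAscl] at hx
    induction hx using Subgroup.closure_induction with
    | mem x hx =>
      rcases hx with hx | ⟨a, ha, rfl⟩
      · exact hAp x (mem_inf.1 hx).1
      · apply hB.2
        have : a * b⁻¹ * a⁻¹ * b = (a * b⁻¹ * a⁻¹) * b := by group
        rw [this]
        exact mul_mem (‹B.Normal›.conj_mem _ (inv_mem hb) a) hb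
    | one => simp
    | mul x y hx hy ihx ihy =>
      rw [← hAscl] at hx hy
      rw [(show Commute x y from setLike_mul_comm hx hy).mul_pow, ihx, ihy, one_mul]
    | inv x hx ih =>
      rw [inv_pow, ih, inv_one]
  have hAsT : As ∈ T := by
    refine ⟨⟨⟨h2, hAsp⟩, ?_⟩, ?_⟩
    · rw [h1]; exact hAmax
    · intro hB'
      exact absurd (inf_eq_right.2 hB') (ne_of_lt h5)
  have h6 := hmax As hAsT
  have h7 : A ⊓ B = As ⊓ B := eq_of_le_of_card_ge h4.le h6
  exact absurd h7 (ne_of_lt h4)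

variable {G : Type*} [Group G]

/-- the join of the subgroups of `P` with property `Q` of the largest possible order. -/
def joinMax (Q : Subgroup G → Prop) (P : Subgroup G) : Subgroup G :=
  sSup {A | IsMaxIn Q P A}

theorem joinMax_map_le {Q : Subgroup G → Prop}
    (haut : ∀ (φ : MulAut G) (A : Subgroup G), Q A → Q (A.map φ.toMonoidHom))
    (φ : MulAut G) (P : Subgroup G) :
    (joinMax Q P).map φ.toMonoidHom ≤ joinMax Q (P.map φ.toMonoidHom) := by
  unfold joinMax
  rw [(gc_map_comap φ.toMonoidHom).l_sSup]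
  exact iSup₂_le fun A hA => le_sSup (IsMaxIn.map haut φ hA)

theorem normalizer_le_normalizer_joinMax [Finite G] {Q : Subgroup G → Prop}
    (haut : ∀ (φ : MulAut G) (A : Subgroup G), Q A → Q (A.map φ.toMonoidHom))
    (P : Subgroup G) :
    normalizer (P : Set G) ≤ normalizer (joinMax Q P : Set G) := by
  intro g hg
  apply mem_normalizer_of_conj_mem
  intro a ha
  rw [mem_normalizer_iff_map_conj_eq] at hg
  have h := joinMax_map_le haut (MulAut.conj g) P
  have hg' : P.map (MulAut.conj g).toMonoidHom = P := hg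
  rw [hg'] at h
  exact h ⟨a, ha, by simp⟩

theorem joinMax_eq_of_le {Q : Subgroup G → Prop} {S T : Subgroup G} (hTS : T ≤ S)
    (hJ : joinMax Q S ≤ T) (hne : ∃ A, IsMaxIn Q S A) : joinMax Q T = joinMax Q S := by
  obtain ⟨A₀, hA₀⟩ := hne
  have hA₀T : A₀ ≤ T := (le_sSup hA₀ : A₀ ≤ joinMax Q S).trans hJ
  unfold joinMax
  congr 1
  ext A
  constructor
  · intro hA
    exact hA₀.of_le' hA₀T hTS hA
  · intro hA
    exact hA.of_le ((le_sSup hA : A ≤ joinMax Q S).trans hJ) hTS

end Cfsg.Agent.Lib.Helper11
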