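import Cfsg.Agent.Lib.Helper11.ZJ
import Cfsg.Agent.Lib.Helper22.CoprimeP

set_option autoImplicit false

namespace Cfsg.Agent.Lib.Helper11

open Subgroup Cfsg
open scoped commutatorElement

variable {G : Type*} [Group G]

theorem mem_sectionKernel_iff {K N : Subgroup G} [N.Normal] {a : G} :
    a ∈ sectionKernel K N ↔ ∀ g ∈ K, g⁻¹ * (a * g * a⁻¹) ∈ N := by
  unfold sectionKernel
  rw [mem_comap, mem_centralizer_iff]
  constructor
  · intro h g hg
    have h1 := h _ (mem_map_of_mem (QuotientGroup.mk' N) hg)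
    rw [← QuotientGroup.eq]
    have h2 : (QuotientGroup.mk' N) g = (QuotientGroup.mk' N) a * (QuotientGroup.mk' N) g *
        ((QuotientGroup.mk' N) a)⁻¹ := by rw [← h1]; group
    simpa using h2
  · rintro h _ ⟨g, hg, rfl⟩
    have h1 := h g hg
    rw [← QuotientGroup.eq] at h1
    have h2 : (QuotientGroup.mk' N) g = (QuotientGroup.mk' N) a * (QuotientGroup.mk' N) g *
        ((QuotientGroup.mk' N) a)⁻¹ := by simpa using h1
    calc (QuotientGroup.mk' N) g * (QuotientGroup.mk' N) a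
        = ((QuotientGroup.mk' N) a * (QuotientGroup.mk' N) g * ((QuotientGroup.mk' N) a)⁻¹) *
          (QuotientGroup.mk' N) a := by rw [← h2]
      _ = (QuotientGroup.mk' N) a * (QuotientGroup.mk' N) g := by group

/-- A subgroup acting trivially on `Q / Φ(Q)`, for a normal `p`-subgroup `Q` containing its centralizer, is a `p`-group. -/
theorem isPGroup_sectionKernel_frattini [Finite G] {p : ℕ} [Fact p.Prime] (Q : Subgroup G)
    (hQ : IsPGroup p Q) (hc : centralizer (Q : Set G) ≤ Q)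
    [((frattini ↥Q).map Q.subtype).Normal] :
    IsPGroup p (sectionKernel Q ((frattini ↥Q).map Q.subtype)) := by
  set Φ := (frattini ↥Q).map Q.subtype with hΦ
  set CK := sectionKernel Q Φ with hCK
  have hp : p.Prime := Fact.out
  have hΦQ : Φ ≤ Q := map_subtype_le _
  have key : ∀ q : ℕ, q.Prime → q ∣ Nat.card CK → q = p := by
    intro q hq hdvd
    by_contra hne
    haveI : Fact q.Prime := ⟨hq⟩
    obtain ⟨⟨x, hxCK⟩, hx⟩ := exists_prime_orderOf_dvd_card' q hdvd
    have hxo : orderOf x = q := by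
      rw [← hx]; exact (Subgroup.orderOf_mk x hxCK).symm
    set A := zpowers x with hA
    have hAq : IsPGroup q A := IsPGroup.of_card (n := 1) (by rw [pow_one, Nat.card_zpowers, hxo])
    have hACK : A ≤ CK := zpowers_le.2 hxCK
    have hΦq : ¬ q ∣ Nat.card Φ := by
      obtain ⟨m, hm⟩ := (hQ.to_le hΦQ).exists_card_eq
      rw [hm]
      intro h
      exact hne ((Nat.prime_dvd_prime_iff_eq hq hp).1 (hq.dvd_of_dvd_pow h))
    have hQle : Q ≤ centralizer (A : Set G) := by
      have htop : ((Q ⊓ centralizer (A : Set G)).subgroupOf Q) ⊔ frattini ↥Q = ⊤ := by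
        rw [eq_top_iff]
        rintro ⟨g, hg⟩ -
        obtain ⟨n, hn, hgn⟩ := Cfsg.Agent.Lib.Helper22.exists_fixed_in_coset A Φ hAq hΦq
          le_normalizer_of_normal g (fun a ha => mem_sectionKernel_iff.1 (hACK ha) g hg)
        obtain ⟨n₀, hn₀, rfl⟩ := hn
        have e : (⟨g, hg⟩ : ↥Q) = (⟨g, hg⟩ * n₀) * n₀⁻¹ := by group
        rw [e]
        apply mul_mem_sup
        · rw [mem_subgroupOf]
          exact mem_inf.2 ⟨(⟨g, hg⟩ * n₀ : ↥Q).2, hgn⟩
        · exact inv_mem hn₀
      have h2 := frattini_nongenerating htop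
      rw [subgroupOf_eq_top] at h2
      exact h2.trans inf_le_right
    have hxQ : x ∈ Q := hc (le_centralizer_iff.1 hQle (mem_zpowers x))
    obtain ⟨k, hk⟩ := hQ ⟨x, hxQ⟩
    have hk' : x ^ p ^ k = 1 := congrArg Subtype.val hk
    have h3 : q ∣ p ^ k := hxo ▸ orderOf_dvd_of_pow_eq_one hk'
    exact hne ((Nat.prime_dvd_prime_iff_eq hq hp).1 (hq.dvd_of_dvd_pow h3))
  exact IsPGroup.of_card (Nat.eq_prime_pow_of_unique_prime_dvd Nat.card_pos.ne' (fun hd h => key _ hd h))

end Cfsg.Agent.Lib.Helper11
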