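import Cfsg.Agent.Lib.Helper11.Natural

set_option autoImplicit false

namespace Cfsg.Agent.Lib.Helper11

open Subgroup Cfsg

universe u

/-- the family whose intersection is the stable normal closure. -/
def stableFamily (p : ℕ) (S : Type u) [Group S] : Set (Subgroup S) :=
  {W : Subgroup S | omegaOne p (Subgroup.center S) ≤ W ∧
    ∀ (H : Type u) [Group H] (τ : S →* H), IsStableEmbedding p τ → (W.map τ).Normal}

theorem stableNormalClosure_eq (p : ℕ) (S : Type u) [Group S] :
    stableNormalClosure p S = sInf (stableFamily p S) := rfl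

theorem IsStableEmbedding.comp_equiv {p : ℕ} {S S' H : Type u} [Group S] [Group S'] [Group H]
    {τ : S →* H} (h : IsStableEmbedding p τ) (e : S' ≃* S) :
    IsStableEmbedding p (τ.comp e.toMonoidHom) := by
  obtain ⟨h1, h2, ⟨P, hP⟩, h4, h5, h6⟩ := h
  refine ⟨h1.comp e.injective, h2, ⟨P, ?_⟩, h4, ?_, ?_⟩
  · rw [hP]
    ext x
    constructor
    · rintro ⟨y, rfl⟩
      exact ⟨e.symm y, by simp⟩
    · rintro ⟨y, rfl⟩
      exact ⟨e y, rfl⟩
  · rw [← Subgroup.map_map, thompsonSubgroup_map]
    exact h5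
  · intro V _ hV
    apply h6 V
    rwa [← Subgroup.map_map, omegaCenterThompson_map] at hV

theorem omegaOne_center_le_omegaCenterThompson (p : ℕ) (S : Type u) [Group S] [Finite S] :
    omegaOne p (center S) ≤ omegaCenterThompson p S := by
  unfold omegaOne
  rw [closure_le]
  rintro x ⟨hx1, hx2⟩
  rw [mem_center_iff] at hx1
  obtain ⟨A₀, hA₀⟩ := exists_mem_maxElementaryAbelianSubgroups (G := S) p
  apply mem_omegaOne _ hx2
  refine mem_inf.2 ⟨?_, fun y _ => hx1 y⟩
  exact (le_sSup hA₀ : A₀ ≤ sSup (maxElementaryAbelianSubgroups p S))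
    (mem_of_mem_maxElementaryAbelianSubgroups hA₀ (fun a _ => hx1 a) hx2)

theorem omegaCenterThompson_map_normal {p : ℕ} {S H : Type u} [Group S] [Group H]
    {τ : S →* H} (hinj : Function.Injective τ) (hJ : ((thompsonSubgroup p S).map τ).Normal) :
    ((omegaCenterThompson p S).map τ).Normal := by
  unfold omegaCenterThompson omegaOne
  rw [MonoidHom.map_closure, ← normalizer_eq_top_iff, eq_top_iff, le_normalizer_closure_iff]
  rintro h - _ ⟨x, ⟨hx1, hx2⟩, rfl⟩
  obtain ⟨hxJ, hxC⟩ := mem_inf.1 hx1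
  obtain ⟨y, hyJ, hy⟩ := hJ.conj_mem _ (mem_map_of_mem τ hxJ) h
  apply Subgroup.subset_closure
  refine ⟨y, ⟨mem_inf.2 ⟨hyJ, ?_⟩, ?_⟩, hy⟩
  · intro j hj
    obtain ⟨j', hj'J, hj'⟩ := hJ.conj_mem _ (mem_map_of_mem τ hj) h⁻¹
    apply hinj
    have e1 : τ j = h * τ j' * h⁻¹ := by rw [hj']; group
    rw [map_mul, map_mul, hy, e1]
    have e2 : τ j' * τ x = τ x * τ j' := by rw [← map_mul, ← map_mul, hxC j' hj'J]
    calc h * τ j' * h⁻¹ * (h * τ x * h⁻¹) = h * (τ j' * τ x) * h⁻¹ := by group
      _ = h * (τ x * τ j') * h⁻¹ := by rw [e2]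
      _ = h * τ x * h⁻¹ * (h * τ j' * h⁻¹) := by group
  · apply hinj
    rw [map_pow, hy, conj_pow, ← map_pow, hx2, map_one]
    group

theorem omegaCenterThompson_mem_stableFamily (p : ℕ) (S : Type u) [Group S] [Finite S] :
    omegaCenterThompson p S ∈ stableFamily p S :=
  ⟨omegaOne_center_le_omegaCenterThompson p S, fun _ _ _ hτ =>
    omegaCenterThompson_map_normal hτ.1 hτ.2.2.2.2.1⟩

theorem stableNormalClosure_le_omegaCenterThompson (p : ℕ) (S : Type u) [Group S] [Finite S] :
    stableNormalClosure p S ≤ omegaCenterThompson p S :=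
  sInf_le (omegaCenterThompson_mem_stableFamily p S)

theorem omegaOne_center_le_stableNormalClosure (p : ℕ) (S : Type u) [Group S] :
    omegaOne p (center S) ≤ stableNormalClosure p S :=
  le_sInf fun _ hW => hW.1

theorem stableNormalClosure_mem_stableFamily (p : ℕ) (S : Type u) [Group S] [Finite S] :
    stableNormalClosure p S ∈ stableFamily p S := by
  refine ⟨omegaOne_center_le_stableNormalClosure p S, ?_⟩
  intro H _ τ hτ
  constructor
  rintro _ ⟨w, hw, rfl⟩ h
  have h0 := (omegaCenterThompson_mem_stableFamily p S).2 H τ hτ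
  obtain ⟨w', -, hw'⟩ := h0.conj_mem _
    (mem_map_of_mem τ (stableNormalClosure_le_omegaCenterThompson p S hw)) h
  refine ⟨w', ?_, hw'⟩
  refine (mem_sInf).2 fun W hW => ?_
  obtain ⟨w'', hw''W, hw''⟩ := (hW.2 H τ hτ).conj_mem _ (mem_map_of_mem τ ((mem_sInf).1 hw W hW)) h
  have : w'' = w' := hτ.1 (hw''.trans hw'.symm)
  rwa [← this]

theorem stableNormalClosure_map_le (p : ℕ) {S S' : Type u} [Group S] [Group S'] (e : S ≃* S') :
    (stableNormalClosure p S).map e.toMonoidHom ≤ stableNormalClosure p S' := by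
  rintro _ ⟨x, hx, rfl⟩
  refine (mem_sInf).2 fun W' hW' => ?_
  have hmem : W'.map e.symm.toMonoidHom ∈ stableFamily p S := by
    refine ⟨?_, ?_⟩
    · have h1 := Subgroup.map_mono (f := e.symm.toMonoidHom) hW'.1
      rwa [omegaOne_map, center_map] at h1
    · intro H _ τ hτ
      rw [Subgroup.map_map]
      exact hW'.2 H _ (IsStableEmbedding.comp_equiv hτ e.symm)
  obtain ⟨y, hy, hyx⟩ := (mem_sInf).1 hx _ hmem
  have : e x = y := by rw [← hyx]; simp
  change e x ∈ W'
  rwa [this]

theorem stableNormalClosure_map (p : ℕ) {S S' : Type u} [Group S] [Group S'] (e : S ≃* S') :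
    (stableNormalClosure p S).map e.toMonoidHom = stableNormalClosure p S' := by
  apply le_antisymm (stableNormalClosure_map_le p e)
  have h := Subgroup.map_mono (f := e.toMonoidHom) (stableNormalClosure_map_le p e.symm)
  rwa [map_map_symm] at h

theorem stableNormalClosure_characteristic (p : ℕ) (S : Type u) [Group S] :
    (stableNormalClosure p S).Characteristic := by
  rw [characteristic_iff_map_eq]
  intro φ
  exact stableNormalClosure_map p φ

end Cfsg.Agent.Lib.Helper11
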