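import Mathlib
import Cfsg.Agent.Lib.Helper24.BG36w
import Cfsg.Agent.Lib.Helper24.PGroup
import Cfsg.Agent.Lib.Helper48.FF1
import Cfsg.Agent.Lib.Helper1.Coprime2
import Cfsg.Agent.Lib.Helper47.AxB

/-!
# BG 3.6, Theorem B: the nonabelian case (for helper24)
-/

set_option autoImplicit false

namespace Cfsg.Agent.Lib.Helper11.BG36n

open Subgroup
open scoped commutatorElement
open Cfsg.Agent.Lib.Helper24 (FrobFormula frob_formula)

variable {X : Type*} [Group X]

theorem le_normalizer_of_forall {N H : Subgroup X} (h : ∀ n ∈ N, ∀ x ∈ H, n * x * n⁻¹ ∈ H) :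
    N ≤ normalizer (H : Set X) := by
  intro n hn
  rw [mem_normalizer_iff]
  intro x
  refine ⟨h n hn x, fun hx => ?_⟩
  have := h n⁻¹ (N.inv_mem hn) _ hx
  simpa [mul_assoc] using this

theorem conj_mem {N H : Subgroup X} (h : N ≤ normalizer (H : Set X)) {n x : X} (hn : n ∈ N)
    (hx : x ∈ H) : n * x * n⁻¹ ∈ H := (mem_normalizer_iff.1 (h hn) x).1 hx

theorem le_normalizer_comm {N H K : Subgroup X} (hH : N ≤ normalizer (H : Set X))
    (hK : N ≤ normalizer (K : Set X)) : N ≤ normalizer ((⁅H, K⁆ : Subgroup X) : Set X) :=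
  (le_inf hH hK).trans (Cfsg.Agent.Lib.Helper24.normalizer_inf_le_normalizer_commutator H K)

theorem le_normalizer_inf' {N H K : Subgroup X} (hH : N ≤ normalizer (H : Set X))
    (hK : N ≤ normalizer (K : Set X)) : N ≤ normalizer ((H ⊓ K : Subgroup X) : Set X) :=
  (le_inf hH hK).trans Subgroup.inf_normalizer_le_normalizer_inf

theorem le_normalizer_centralizer' {N H : Subgroup X} (hH : N ≤ normalizer (H : Set X)) :
    N ≤ normalizer ((centralizer (H : Set X) : Subgroup X) : Set X) := by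
  apply le_normalizer_of_forall
  intro n hn c hc
  rw [mem_centralizer_iff] at hc ⊢
  intro h hh
  have h1 : n⁻¹ * h * n⁻¹⁻¹ ∈ H := conj_mem hH (N.inv_mem hn) hh
  have h2 := hc _ h1
  have h3 : h * (n * c * n⁻¹) = n * ((n⁻¹ * h * n⁻¹⁻¹) * c) * n⁻¹ := by group
  rw [h3, h2]; group

theorem eq_bot_of_commutator_self [Group.IsSolvable X] {H : Subgroup X} (h : ⁅H, H⁆ = H) :
    H = ⊥ := by
  obtain ⟨n, hn⟩ := (inferInstance : Group.IsSolvable X).solvable
  have h1 : ∀ k, H ≤ derivedSeries X k := by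
    intro k
    induction k with
    | zero => exact le_top
    | succ k ih =>
      rw [derivedSeries_succ]
      calc H = ⁅H, H⁆ := h.symm
        _ ≤ _ := commutator_mono ih ih
  exact eq_bot_iff.2 (hn ▸ h1 n)

theorem commutator_self_le (H : Subgroup X) : ⁅H, H⁆ ≤ H :=
  le_normalizer_iff_commutator_le_left.1 le_normalizer

theorem isPGroup_of_elem {p : ℕ} {V : Subgroup X} (hV : Cfsg.IsElementaryAbelian p V) :
    IsPGroup p V := by
  intro g
  refine ⟨1, ?_⟩
  apply Subtype.ext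
  simpa using hV.2 g g.2

/-- in a `q`-group an element killed by a number prime to `q` is trivial -/
theorem eq_one_of_pow_coprime {q n : ℕ} {H : Subgroup X} (hH : IsPGroup q H) (hn : n.Coprime q)
    {v : X} (hv : v ∈ H) (h : v ^ n = 1) : v = 1 := by
  obtain ⟨k, hk⟩ := hH ⟨v, hv⟩
  have hk' : v ^ q ^ k = 1 := by simpa using congrArg Subtype.val hk
  have h1 : orderOf v ∣ n := orderOf_dvd_of_pow_eq_one h
  have h2 : orderOf v ∣ q ^ k := orderOf_dvd_of_pow_eq_one hk'
  have h3 : orderOf v = 1 := Nat.eq_one_of_dvd_coprimes (hn.pow_right k) h1 h2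
  exact orderOf_eq_one_iff.1 h3

theorem coprime_card_prime [Finite X] {p r : ℕ} (hp : p.Prime) (hr : r.Prime) (hpr : p ≠ r)
    {H : Subgroup X} (hH : IsPGroup p H) : (Nat.card H).Coprime r := by
  have : Fact p.Prime := ⟨hp⟩
  obtain ⟨n, hn⟩ := IsPGroup.iff_card.1 hH
  rw [hn]
  exact Nat.Coprime.pow_left n ((Nat.coprime_primes hp hr).2 hpr)

theorem coprime_card [Finite X] {p q : ℕ} (hp : p.Prime) (hq : q.Prime) (hpq : p ≠ q)
    {H K : Subgroup X} (hH : IsPGroup p H) (hK : IsPGroup q K) :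
    (Nat.card H).Coprime (Nat.card K) := by
  have : Fact q.Prime := ⟨hq⟩
  obtain ⟨n, hn⟩ := IsPGroup.iff_card.1 hK
  rw [hn]
  exact Nat.Coprime.pow_right n (coprime_card_prime hp hq hpq hH)

theorem le_normalizer_of_abelian {V W : Subgroup X} (hVc : IsMulCommutative V) (hW : W ≤ V) :
    V ≤ normalizer (W : Set X) := by
  apply le_normalizer_of_forall
  intro n hn x hx
  have h1 : n * x = x * n := by
    have := hVc.is_comm.comm ⟨n, hn⟩ ⟨x, hW hx⟩
    exact congrArg Subtype.val this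
  rw [h1, mul_inv_cancel_right]
  exact hx

theorem le_normalizer_of_le_centralizer {A P : Subgroup X} (h : A ≤ centralizer (P : Set X)) :
    A ≤ normalizer (P : Set X) := by
  apply le_normalizer_of_forall
  intro n hn x hx
  have h1 : x * n = n * x := mem_centralizer_iff.1 (h hn) x hx
  rw [← h1, mul_inv_cancel_right]
  exact hx

/-- a subgroup of a group of prime order `p` has order `1` or `p` -/
theorem card_eq_one_or_of_le {p : ℕ} (hp : p.Prime) {H K : Subgroup X} (hK : Nat.card K = p)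
    (h : H ≤ K) : Nat.card H = 1 ∨ Nat.card H = p := by
  have := card_dvd_of_le h
  rw [hK] at this
  exact (Nat.dvd_prime hp).1 this

theorem commute_aux {c g x : X} (h1 : x * c = c * x) (h2 : x * ⁅c, g⁻¹⁆ = ⁅c, g⁻¹⁆ * x) :
    c * ⁅g, x⁆ = ⁅g, x⁆ * c := by
  obtain ⟨w, hw⟩ : ∃ w, w = ⁅c, g⁻¹⁆ := ⟨_, rfl⟩
  rw [← hw] at h2
  have hw' : g⁻¹ * c = w⁻¹ * c * g⁻¹ := by rw [hw, commutatorElement_def]; group
  have h3 : x * w⁻¹ = w⁻¹ * x := by
    have := congrArg (fun y => w⁻¹ * y * w⁻¹) h2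
    simpa [mul_assoc] using this.symm
  have h4 : c * x⁻¹ = x⁻¹ * c := by
    have := congrArg (fun y => x⁻¹ * y * x⁻¹) h1
    simpa [mul_assoc] using this
  have hy : g * x * g⁻¹ * c = c * (g * x * g⁻¹) := by
    calc g * x * g⁻¹ * c = g * x * (g⁻¹ * c) := by group
      _ = g * x * (w⁻¹ * c * g⁻¹) := by rw [hw']
      _ = g * (x * w⁻¹) * c * g⁻¹ := by group
      _ = g * (w⁻¹ * x) * c * g⁻¹ := by rw [h3]
      _ = g * w⁻¹ * (x * c) * g⁻¹ := by group
      _ = g * w⁻¹ * (c * x) * g⁻¹ := by rw [h1]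
      _ = g * (w⁻¹ * c * g⁻¹) * (g * x * g⁻¹) := by group
      _ = g * (g⁻¹ * c) * (g * x * g⁻¹) := by rw [hw']
      _ = c * (g * x * g⁻¹) := by group
  rw [commutatorElement_def]
  calc c * (g * x * g⁻¹ * x⁻¹) = (c * (g * x * g⁻¹)) * x⁻¹ := by group
    _ = g * x * g⁻¹ * c * x⁻¹ := by rw [← hy]
    _ = g * x * g⁻¹ * (c * x⁻¹) := by group
    _ = g * x * g⁻¹ * (x⁻¹ * c) := by rw [h4]
    _ = g * x * g⁻¹ * x⁻¹ * c := by group

section step2

variable [Finite X] [Group.IsSolvable X]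

/-- Step (2): a central `R₀`-invariant subgroup `A` of `Q`, centralized by `P`, on which `R₀` acts
without fixed points, is trivial. -/
theorem step2 (hF : FrobFormula X) {p q r : ℕ} (hp : p.Prime)
    (hq : q.Prime) (hr : r.Prime) (hpq : p ≠ q) (hpr : p ≠ r) (hqr : q ≠ r) (V Q P R₀ A : Subgroup X)
    (hV : Cfsg.IsElementaryAbelian p V) (hQ : IsPGroup q Q) (hP : IsPGroup p P)
    (hR₀ : Nat.card R₀ = r) (hQV : Q ≤ normalizer (V : Set X)) (hPV : P ≤ normalizer (V : Set X))
    (hRV : R₀ ≤ normalizer (V : Set X)) (hRP : R₀ ≤ normalizer (P : Set X))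
    (hfaith : Q ⊓ centralizer (V : Set X) = ⊥)
    (hCV : Nat.card ↥(V ⊓ centralizer (R₀ : Set X)) = p) (hcomm : ⁅Q, P⁆ = Q)
    (hAQ : A ≤ Q) (hAZ : A ≤ centralizer (Q : Set X)) (hAP : A ≤ centralizer (P : Set X))
    (hRA : R₀ ≤ normalizer (A : Set X)) (hAfix : A ⊓ centralizer (R₀ : Set X) = ⊥) : A = ⊥ := by
  by_contra hA1
  have : Fact p.Prime := ⟨hp⟩
  have hVp : IsPGroup p V := isPGroup_of_elem hV
  have hAq : IsPGroup q A := hQ.to_le hAQ
  have hAV : A ≤ normalizer (V : Set X) := hAQ.trans hQV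
  have hAr : (Nat.card A).Coprime r := coprime_card_prime hq hr hqr hAq
  have f1 := frob_formula hF hr hR₀ hA1 hRA hAfix hAV hRV (coprime_card hp hq hpq hVp hAq)
    (coprime_card_prime hp hr hpr hVp) hAr
  rw [hCV] at f1
  have hlt : V ⊓ centralizer (A : Set X) ≠ V := by
    intro h
    have h1 : V ≤ centralizer (A : Set X) := inf_eq_left.1 h
    have h2 : A ≤ Q ⊓ centralizer (V : Set X) := le_inf hAQ (le_centralizer_iff.1 h1)
    rw [hfaith] at h2
    exact hA1 (eq_bot_iff.2 h2)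
  have hppos : 0 < p ^ r := pow_pos hp.pos r
  have hc1 : Nat.card ↥(V ⊓ (centralizer (A : Set X) ⊓ centralizer (R₀ : Set X))) = 1 := by
    rcases card_eq_one_or_of_le hp hCV
      (inf_le_inf_left V (inf_le_right : centralizer (A : Set X) ⊓ centralizer (R₀ : Set X) ≤ _))
      with h | h
    · exact h
    · exfalso
      rw [h] at f1
      have h3 : Nat.card V = Nat.card ↥(V ⊓ centralizer (A : Set X)) :=
        Nat.eq_of_mul_eq_mul_left hppos f1
      exact hlt (eq_of_le_of_card_ge inf_le_left h3.le)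
  rw [hc1, one_pow, one_mul] at f1
  set VA : Subgroup X := ⁅V, A⁆ with hVA
  have hVAV : VA ≤ V := le_normalizer_iff_commutator_le_left.1 hAV
  have hVAp : IsPGroup p VA := hVp.to_le hVAV
  have hVAfix : VA ⊓ centralizer (A : Set X) = ⊥ :=
    Cfsg.Agent.Lib.Helper48.commutator_inf_centralizer_eq_bot hV.1 hAV
      (fun v hv h => eq_one_of_pow_coprime hVp (coprime_card_prime hq hp hpq.symm hAq) hv h)
  have hVsup : VA ⊔ (V ⊓ centralizer (A : Set X)) = V :=
    Cfsg.Agent.Lib.Helper1.commutator_sup_centralizer A V hAV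
      (coprime_card hq hp hpq.symm hAq hVp) (Or.inl inferInstance)
  have hcard := Cfsg.Agent.Lib.Helper10.card_sup_mul_card_inf VA (V ⊓ centralizer (A : Set X))
    (hVAV.trans (le_normalizer_of_abelian hV.1 inf_le_left))
  have hinf : VA ⊓ (V ⊓ centralizer (A : Set X)) = ⊥ := by
    rw [eq_bot_iff, ← hVAfix]
    exact inf_le_inf_left VA inf_le_right
  rw [hVsup, hinf, card_bot, mul_one, f1] at hcard
  have hVAcard : Nat.card VA = p ^ r :=
    (Nat.eq_of_mul_eq_mul_right Nat.card_pos hcard).symm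
  have hVA1 : VA ≠ ⊥ := by
    intro h
    rw [h, card_bot] at hVAcard
    exact (Nat.one_lt_pow hr.ne_zero hp.one_lt).ne hVAcard
  have hPA : P ≤ normalizer (A : Set X) :=
    le_normalizer_of_le_centralizer (le_centralizer_iff.1 hAP)
  have hPVA : P ≤ normalizer (VA : Set X) := le_normalizer_comm hPV hPA
  set H : Subgroup X := VA ⊓ centralizer (P : Set X) with hH
  have hH1 : H ≠ ⊥ := Cfsg.Agent.Lib.Helper47.inf_centralizer_ne_bot hVAp hP hVA1 hPVA
  have hHp : IsPGroup p H := hVAp.to_le inf_le_left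
  have hAH : A ≤ normalizer (H : Set X) :=
    le_normalizer_inf' (le_normalizer_comm hAV le_normalizer)
      (le_normalizer_centralizer' (le_normalizer_of_le_centralizer hAP))
  have hRH : R₀ ≤ normalizer (H : Set X) :=
    le_normalizer_inf' (le_normalizer_comm hRV hRA) (le_normalizer_centralizer' hRP)
  have f2 := frob_formula hF hr hR₀ hA1 hRA hAfix hAH hRH (coprime_card hp hq hpq hHp hAq)
    (coprime_card_prime hp hr hpr hHp) hAr
  have hHA : H ⊓ centralizer (A : Set X) = ⊥ := by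
    rw [eq_bot_iff, ← hVAfix]
    exact inf_le_inf_right _ inf_le_left
  have hHAR : H ⊓ (centralizer (A : Set X) ⊓ centralizer (R₀ : Set X)) = ⊥ := by
    rw [eq_bot_iff, ← hHA]
    exact inf_le_inf_left H inf_le_left
  rw [hHA, hHAR, card_bot, one_pow, one_mul, mul_one] at f2
  have hHcard : Nat.card H = p ^ r := by
    rcases card_eq_one_or_of_le hp hCV
      (inf_le_inf_right (centralizer (R₀ : Set X)) (inf_le_left.trans hVAV : H ≤ V)) with h | h
    · exfalso
      rw [h, one_pow] at f2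
      exact hH1 (card_eq_one.1 f2)
    · rw [f2, h]
  have hHVA : H = VA := eq_of_le_of_card_ge inf_le_left (by rw [hHcard, hVAcard])
  have hVAP : VA ≤ centralizer (P : Set X) := by
    rw [← hHVA]; exact inf_le_right
  have hQA : Q ≤ normalizer (A : Set X) :=
    le_normalizer_of_le_centralizer (le_centralizer_iff.1 hAZ)
  have hQVA : Q ≤ normalizer (VA : Set X) := le_normalizer_comm hQV hQA
  have hQC : Q ≤ normalizer ((centralizer (VA : Set X) : Subgroup X) : Set X) :=
    le_normalizer_centralizer' hQVA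
  have hPC : P ≤ centralizer (VA : Set X) := le_centralizer_iff.1 hVAP
  have hQcent : Q ≤ centralizer (VA : Set X) := by
    rw [← hcomm, commutator_le]
    intro g hg u hu
    rw [commutatorElement_def]
    exact mul_mem (conj_mem hQC hg (hPC hu)) (inv_mem (hPC hu))
  have h5 : VA ≤ VA ⊓ centralizer (A : Set X) :=
    le_inf le_rfl (le_centralizer_iff.1 (hAQ.trans hQcent))
  rw [hVAfix] at h5
  exact hVA1 (eq_bot_iff.2 h5)

/-- The nonabelian case of Theorem B of BG 3.6 (statement of helper24, bulletin 439). -/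
theorem bg36_nonab (hF : FrobFormula X) {p q r : ℕ} (hp : p.Prime)
    (hq : q.Prime) (hr : r.Prime) (hpq : p ≠ q) (hpr : p ≠ r) (hqr : q ≠ r) (V Q P R₀ : Subgroup X)
    (hV : Cfsg.IsElementaryAbelian p V) (hQ : IsPGroup q Q) (hP : IsPGroup p P)
    (hR₀ : Nat.card R₀ = r) (hQV : Q ≤ normalizer (V : Set X)) (hPV : P ≤ normalizer (V : Set X))
    (hRV : R₀ ≤ normalizer (V : Set X)) (hPQ : P ≤ normalizer (Q : Set X))
    (hRQ : R₀ ≤ normalizer (Q : Set X)) (hRP : R₀ ≤ normalizer (P : Set X))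
    (hfaith : Q ⊓ centralizer (V : Set X) = ⊥) (hCP : P ⊓ centralizer (R₀ : Set X) = ⊥)
    (hCV : Nat.card ↥(V ⊓ centralizer (R₀ : Set X)) = p)
    (hZq : IsCyclic ↥(Q ⊓ centralizer (R₀ : Set X))) (hcomm : ⁅Q, P⁆ = Q)
    (hmin : ∀ Y : Subgroup X, Y ≤ Q → Y ≠ Q → P ≤ normalizer (Y : Set X) →
      R₀ ≤ normalizer (Y : Set X) → Y ≤ centralizer (P : Set X)) :
    ∀ a ∈ Q, ∀ b ∈ Q, a * b = b * a := by
  by_contra hnab
  have hQ1 : Q ≠ ⊥ := by
    intro h
    apply hnab
    intro a ha b hb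
    rw [h, mem_bot] at ha hb
    rw [ha, hb]
  set Z : Subgroup X := Q ⊓ centralizer (Q : Set X) with hZ
  set Q' : Subgroup X := ⁅Q, Q⁆ with hQ'
  have hZQ : Z ≠ Q := by
    intro h
    apply hnab
    intro a ha b hb
    have h1 : Q ≤ centralizer (Q : Set X) := inf_eq_left.1 h
    exact (mem_centralizer_iff.1 (h1 hb) a ha)
  have hQ'Q : Q' ≠ Q := fun h => hQ1 (eq_bot_of_commutator_self h)
  have hQ'le : Q' ≤ Q := commutator_self_le Q
  have hZP : Z ≤ centralizer (P : Set X) :=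
    hmin Z inf_le_left hZQ (le_normalizer_inf' hPQ (le_normalizer_centralizer' hPQ))
      (le_normalizer_inf' hRQ (le_normalizer_centralizer' hRQ))
  have hQ'P : Q' ≤ centralizer (P : Set X) :=
    hmin Q' hQ'le hQ'Q (le_normalizer_comm hPQ hPQ) (le_normalizer_comm hRQ hRQ)
  -- (1)
  have hQ'Z : Q' ≤ Z := by
    refine le_inf hQ'le ?_
    have h1 : ⁅⁅P, Q'⁆, Q⁆ = ⊥ := by
      have : ⁅P, Q'⁆ = ⊥ := by
        rw [commutator_comm]; exact commutator_eq_bot_iff_le_centralizer.2 hQ'P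
      rw [this, commutator_bot_left]
    have h2 : ⁅⁅Q', Q⁆, P⁆ = ⊥ := by
      have h3 : ⁅Q', Q⁆ ≤ Q' :=
        le_normalizer_iff_commutator_le_left.1 (le_normalizer_comm le_normalizer le_normalizer)
      exact commutator_eq_bot_iff_le_centralizer.2 (h3.trans hQ'P)
    have h4 := commutator_commutator_eq_bot_of_rotate h1 h2
    rw [hcomm, commutator_comm] at h4
    exact commutator_eq_bot_iff_le_centralizer.1 h4
  have hZq' : IsPGroup q Z := hQ.to_le inf_le_left
  have hRZ : R₀ ≤ normalizer (Z : Set X) :=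
    le_normalizer_inf' hRQ (le_normalizer_centralizer' hRQ)
  have hZc : IsMulCommutative Z := by
    refine ⟨⟨fun a b => ?_⟩⟩
    apply Subtype.ext
    exact (mem_centralizer_iff.1 b.2.2 a a.2.1)
  -- (2)
  have hZR : Z ≤ centralizer (R₀ : Set X) := by
    set A : Subgroup X := ⁅Z, R₀⁆ with hA
    have hAZ' : A ≤ Z := le_normalizer_iff_commutator_le_left.1 hRZ
    have hAfix : A ⊓ centralizer (R₀ : Set X) = ⊥ :=
      Cfsg.Agent.Lib.Helper48.commutator_inf_centralizer_eq_bot hZc hRZ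
        (fun v hv h => eq_one_of_pow_coprime hZq'
          (by rw [hR₀]; exact (Nat.coprime_primes hr hq).2 hqr.symm) hv h)
    have hAbot : A = ⊥ := step2 hF hp hq hr hpq hpr hqr V Q P R₀ A hV hQ hP hR₀ hQV hPV hRV hRP
      hfaith hCV hcomm (hAZ'.trans inf_le_left) (hAZ'.trans inf_le_right) (hAZ'.trans hZP)
      (le_normalizer_comm hRZ le_normalizer) hAfix
    exact commutator_eq_bot_iff_le_centralizer.1 hAbot
  -- (3)
  set C : Subgroup X := Q ⊓ centralizer (R₀ : Set X) with hC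
  have hCc : IsMulCommutative C := IsCyclic.isMulCommutative
  have hQsup : ⁅Q, R₀⁆ ⊔ C = Q :=
    Cfsg.Agent.Lib.Helper1.commutator_sup_centralizer R₀ Q hRQ
      (by rw [hR₀]; exact (coprime_card_prime hq hr hqr hQ).symm) (Or.inl inferInstance)
  have hCZ : C ≤ Z := by
    intro c hc
    refine ⟨hc.1, ?_⟩
    have h1 : ⁅Q, R₀⁆ ≤ centralizer ({c} : Set X) := by
      rw [commutator_le]
      intro g hg x hx
      rw [mem_centralizer_singleton_iff]
      have h2 : ⁅c, g⁻¹⁆ ∈ centralizer (R₀ : Set X) :=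
        hZR (hQ'Z (commutator_mem_commutator hc.1 (Q.inv_mem hg)))
      exact (commute_aux (mem_centralizer_iff.1 hc.2 x hx) (mem_centralizer_iff.1 h2 x hx)).symm
    have h2 : C ≤ centralizer ({c} : Set X) := by
      intro d hd
      rw [mem_centralizer_singleton_iff]
      exact congrArg Subtype.val (hCc.is_comm.comm ⟨d, hd⟩ ⟨c, hc⟩)
    have h3 : Q ≤ centralizer ({c} : Set X) := by
      rw [← hQsup]; exact sup_le h1 h2
    show c ∈ centralizer (Q : Set X)
    rw [mem_centralizer_iff]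
    intro h hh
    exact mem_centralizer_singleton_iff.1 (h3 hh)
  have hCeq : C = Z := le_antisymm hCZ (le_inf inf_le_left hZR)
  -- (4)
  have hP1 : P ≠ ⊥ := by
    intro h
    rw [h, commutator_bot_right] at hcomm
    exact hQ1 hcomm.symm
  have f := frob_formula hF hr hR₀ hP1 hRP hCP hPQ hRQ (coprime_card hq hp hpq.symm hQ hP)
    (coprime_card_prime hq hr hqr hQ) (coprime_card_prime hp hr hpr hP)
  have e1 : Q ⊓ (centralizer (P : Set X) ⊓ centralizer (R₀ : Set X)) = Z := by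
    apply le_antisymm
    · rw [← hCeq]
      exact inf_le_inf_left Q inf_le_right
    · exact le_inf inf_le_left (le_inf hZP hZR)
  rw [e1, ← hC, hCeq] at f
  have hZpos : 0 < Nat.card Z ^ r := pow_pos Nat.card_pos r
  have f' : Nat.card Q = Nat.card ↥(Q ⊓ centralizer (P : Set X)) := Nat.eq_of_mul_eq_mul_left hZpos f
  have hQP : Q ⊓ centralizer (P : Set X) = Q := eq_of_le_of_card_ge inf_le_left f'.le
  have hQP' : Q ≤ centralizer (P : Set X) := inf_eq_left.1 hQP
  have := commutator_eq_bot_iff_le_centralizer.2 hQP'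
  rw [hcomm] at this
  exact hQ1 this

end step2

end Cfsg.Agent.Lib.Helper11.BG36n
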