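import Cfsg.Agent.Lib.Helper11.DicksonGen
import Cfsg.Agent.Lib.Helper41.SL2Conj

set_option autoImplicit false
set_option linter.unusedSectionVars false

namespace Cfsg.Agent.Lib.Helper11.Dickson

open Matrix

variable {L : Type*} [Field L]

theorem trace_conj (w g : Matrix.SpecialLinearGroup (Fin 2) L) :
    (w * g * w⁻¹ : Matrix.SpecialLinearGroup (Fin 2) L) 0 0 +
      (w * g * w⁻¹ : Matrix.SpecialLinearGroup (Fin 2) L) 1 1 = g 0 0 + g 1 1 := by
  obtain ⟨i00, i01, i10, i11⟩ := inv_apply' w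
  have hdet := det_eq' w
  simp only [mul_apply', i00, i01, i10, i11]
  linear_combination (g 0 0 + g 1 1) * hdet

/-- diagonal matrices -/
def dMat (d : L) (hd : d ≠ 0) : Matrix.SpecialLinearGroup (Fin 2) L :=
  ⟨!![d, 0; 0, d⁻¹], by simp [Matrix.det_fin_two, hd]⟩

/-- the Weyl element -/
def wMat : Matrix.SpecialLinearGroup (Fin 2) L := ⟨!![0, 1; -1, 0], by simp [Matrix.det_fin_two]⟩

theorem dMat_apply (d : L) (hd : d ≠ 0) : (dMat d hd) 0 0 = d ∧ (dMat d hd) 0 1 = 0 ∧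
    (dMat d hd) 1 0 = 0 ∧ (dMat d hd) 1 1 = d⁻¹ := by
  refine ⟨?_, ?_, ?_, ?_⟩ <;> simp [dMat]

theorem wMat_apply : (wMat : Matrix.SpecialLinearGroup (Fin 2) L) 0 0 = 0 ∧
    (wMat : Matrix.SpecialLinearGroup (Fin 2) L) 0 1 = 1 ∧
    (wMat : Matrix.SpecialLinearGroup (Fin 2) L) 1 0 = -1 ∧
    (wMat : Matrix.SpecialLinearGroup (Fin 2) L) 1 1 = 0 := by
  refine ⟨?_, ?_, ?_, ?_⟩ <;> simp [wMat]

theorem conj_dMat (d : L) (hd : d ≠ 0) (b : L) :
    dMat d hd * uMat b * (dMat d hd)⁻¹ = uMat (d ^ 2 * b) := by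
  obtain ⟨d00, d01, d10, d11⟩ := dMat_apply d hd
  obtain ⟨i00, i01, i10, i11⟩ := inv_apply' (dMat d hd)
  obtain ⟨u00, u01, u10, u11⟩ := uMat_apply b
  obtain ⟨v00, v01, v10, v11⟩ := uMat_apply (d ^ 2 * b)
  ext i j
  fin_cases i <;> fin_cases j <;>
    simp only [Fin.zero_eta, Fin.mk_one, Fin.isValue, mul_apply', u00, u01, u10, u11, v00, v01, v10, v11, d00, d01, d10, d11, i00, i01, i10, i11]
  · field_simp; ring
  · ring
  · ring
  · field_simp; ring

theorem conj_wMat (c : L) : wMat * lMat c * (wMat)⁻¹ = uMat (-c) := by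
  obtain ⟨d00, d01, d10, d11⟩ := wMat_apply (L := L)
  obtain ⟨i00, i01, i10, i11⟩ := inv_apply' (wMat : Matrix.SpecialLinearGroup (Fin 2) L)
  obtain ⟨u00, u01, u10, u11⟩ := lMat_apply c
  obtain ⟨v00, v01, v10, v11⟩ := uMat_apply (-c)
  ext i j
  fin_cases i <;> fin_cases j <;>
    simp only [Fin.zero_eta, Fin.mk_one, Fin.isValue, mul_apply', u00, u01, u10, u11, v00, v01, v10, v11, d00, d01, d10, d11, i00, i01, i10, i11] <;> ring

theorem exists_conj_uMat [IsAlgClosed L] (b : L) (hb : b ≠ 0) :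
    ∃ w : Matrix.SpecialLinearGroup (Fin 2) L, w * uMat b * w⁻¹ = uMat 1 := by
  obtain ⟨d, hd⟩ := IsAlgClosed.exists_pow_nat_eq (b⁻¹) (n := 2) (by norm_num)
  have hd0 : d ≠ 0 := by
    rintro rfl
    rw [zero_pow (by norm_num)] at hd
    exact inv_ne_zero hb hd.symm
  refine ⟨dMat d hd0, ?_⟩
  rw [conj_dMat, hd, inv_mul_cancel₀ hb]

theorem exists_conj_one [IsAlgClosed L] (t : Matrix.SpecialLinearGroup (Fin 2) L)
    (htr : t 0 0 + t 1 1 = 2) (ht1 : t ≠ 1) :
    ∃ w : Matrix.SpecialLinearGroup (Fin 2) L, w * t * w⁻¹ = uMat 1 := by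
  by_cases hc : t 1 0 = 0
  · have hdet := det_eq' t
    rw [hc] at hdet
    have h00 : t 0 0 = 1 := by
      have : (t 0 0 - 1) ^ 2 = 0 := by
        have h11 : t 1 1 = 2 - t 0 0 := by linear_combination htr
        rw [h11] at hdet
        linear_combination -hdet
      have := pow_eq_zero_iff (by norm_num) |>.1 this
      linear_combination this
    have h11 : t 1 1 = 1 := by linear_combination htr - h00
    have ht : t = uMat (t 0 1) := by
      obtain ⟨u00, u01, u10, u11⟩ := uMat_apply (t 0 1)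
      ext i j
      fin_cases i <;> fin_cases j <;>
        simp only [Fin.zero_eta, Fin.mk_one, Fin.isValue, u00, u01, u10, u11, h00, h11, hc]
    have hb : t 0 1 ≠ 0 := by
      intro hb
      apply ht1
      rw [ht, hb, uMat_zero]
    obtain ⟨w, hw⟩ := exists_conj_uMat (t 0 1) hb
    exact ⟨w, by rw [ht]; exact hw⟩
  · have h1 := conj_to_lMat t htr hc
    have h2 := conj_wMat (t 1 0)
    obtain ⟨w, hw⟩ := exists_conj_uMat (-(t 1 0)) (neg_ne_zero.2 hc)
    refine ⟨w * wMat * uMat ((1 - t 0 0) / t 1 0), ?_⟩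
    rw [← hw, ← h2, ← h1]
    group

/-- simultaneous normal form of a pair of unipotent elements with distinct centres. -/
theorem exists_conj_pair [IsAlgClosed L] (t₁ t₂ : Matrix.SpecialLinearGroup (Fin 2) L)
    (h₁ : t₁ 0 0 + t₁ 1 1 = 2) (h₂ : t₂ 0 0 + t₂ 1 1 = 2)
    (h₁₂ : (t₁ * t₂) 0 0 + (t₁ * t₂) 1 1 ≠ 2) :
    ∃ (w : Matrix.SpecialLinearGroup (Fin 2) L) (τ : L), τ ≠ 0 ∧ w * t₁ * w⁻¹ = uMat 1 ∧
      w * t₂ * w⁻¹ = lMat τ := by
  have ht1 : t₁ ≠ 1 := by
    rintro rfl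
    rw [one_mul] at h₁₂
    exact h₁₂ h₂
  obtain ⟨w, hw⟩ := exists_conj_one t₁ h₁ ht1
  obtain ⟨y, hy⟩ : ∃ y, y = w * t₂ * w⁻¹ := ⟨_, rfl⟩
  have hytr : y 0 0 + y 1 1 = 2 := by rw [hy, trace_conj]; exact h₂
  have hyc : y 1 0 ≠ 0 := by
    intro hc
    apply h₁₂
    have h3 : uMat 1 * y = w * (t₁ * t₂) * w⁻¹ := by rw [← hw, hy]; group
    have h4 := trace_conj w (t₁ * t₂)
    rw [← h3] at h4
    obtain ⟨u00, u01, u10, u11⟩ := uMat_apply (1 : L)
    rw [← h4, mul_apply', mul_apply', u00, u01, u10, u11, hc]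
    linear_combination hytr
  refine ⟨uMat ((1 - y 0 0) / y 1 0) * w, y 1 0, hyc, ?_, ?_⟩
  · have : uMat ((1 - y 0 0) / y 1 0) * w * t₁ * (uMat ((1 - y 0 0) / y 1 0) * w)⁻¹ =
        uMat ((1 - y 0 0) / y 1 0) * (w * t₁ * w⁻¹) * (uMat ((1 - y 0 0) / y 1 0))⁻¹ := by group
    rw [this, hw, uMat_mul, add_comm, ← uMat_mul, mul_inv_cancel_right]
  · have : uMat ((1 - y 0 0) / y 1 0) * w * t₂ * (uMat ((1 - y 0 0) / y 1 0) * w)⁻¹ =
        uMat ((1 - y 0 0) / y 1 0) * (w * t₂ * w⁻¹) * (uMat ((1 - y 0 0) / y 1 0))⁻¹ := by group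
    rw [this, ← hy, conj_to_lMat y hytr hyc]

/-- Step 0: two unipotent elements with distinct centres. -/
theorem exists_pair {F : Type*} [Field F] (p : ℕ) [Fact p.Prime] [CharP F p]
    (H : Subgroup (Matrix.SpecialLinearGroup (Fin 2) F)) (hH : 1 < Nat.card (Sylow p H)) :
    ∃ t₁ ∈ H, ∃ t₂ ∈ H, t₁ 0 0 + t₁ 1 1 = 2 ∧ t₂ 0 0 + t₂ 1 1 = 2 ∧
      (t₁ * t₂) 0 0 + (t₁ * t₂) 1 1 ≠ 2 := by
  by_contra hcon
  push Not at hcon
  let U : Subgroup H :=
    { carrier := {h | (h : Matrix.SpecialLinearGroup (Fin 2) F) 0 0 +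
        (h : Matrix.SpecialLinearGroup (Fin 2) F) 1 1 = 2}
      one_mem' := by
        show ((1 : H) : Matrix.SpecialLinearGroup (Fin 2) F) 0 0 +
          ((1 : H) : Matrix.SpecialLinearGroup (Fin 2) F) 1 1 = 2
        simp; norm_num
      mul_mem' := by
        intro a b ha hb
        exact hcon a a.2 b b.2 ha hb
      inv_mem' := by
        intro a ha
        show ((a⁻¹ : H) : Matrix.SpecialLinearGroup (Fin 2) F) 0 0 +
          ((a⁻¹ : H) : Matrix.SpecialLinearGroup (Fin 2) F) 1 1 = 2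
        obtain ⟨i00, i01, i10, i11⟩ := inv_apply' (a : Matrix.SpecialLinearGroup (Fin 2) F)
        rw [Subgroup.coe_inv, i00, i11, add_comm]
        exact ha }
  have hU : IsPGroup p U := by
    rintro ⟨h, hh⟩
    refine ⟨1, ?_⟩
    have h1 : (h : Matrix.SpecialLinearGroup (Fin 2) F) 0 0 +
        (h : Matrix.SpecialLinearGroup (Fin 2) F) 1 1 = 2 := hh
    have h2 := Cfsg.Agent.Lib.Helper41.sl2_pow_char_of_trace_two p
      (h : Matrix.SpecialLinearGroup (Fin 2) F) (by rw [Matrix.trace_fin_two]; exact h1)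
    rw [pow_one]
    ext1
    ext1
    ext1
    rw [Subgroup.coe_pow, Subgroup.coe_pow, Matrix.SpecialLinearGroup.coe_pow, h2]
    rfl
  have hall : ∀ P : Sylow p H, (P : Subgroup H) = U := by
    intro P
    symm
    apply P.is_maximal' hU
    intro h hh
    obtain ⟨k, hk⟩ := P.isPGroup' ⟨h, hh⟩
    have hk' : (h : Matrix.SpecialLinearGroup (Fin 2) F) ^ (p ^ k) = 1 := by
      have := congrArg (fun x : (P : Subgroup H) => ((x : H) : Matrix.SpecialLinearGroup (Fin 2) F)) hk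
      simpa using this
    have := sl2_trace_eq_two_of_pow (h : Matrix.SpecialLinearGroup (Fin 2) F) k hk'
    rw [Matrix.trace_fin_two] at this
    exact this
  have hsub : Subsingleton (Sylow p H) := ⟨fun P Q => Sylow.ext ((hall P).trans (hall Q).symm)⟩
  have := Finite.card_le_one_iff_subsingleton.2 hsub
  omega

/-- **Dickson**: a subgroup of `SL₂(q)`, `q` a power of the odd prime `p`, with more than one Sylow
`p`-subgroup contains a copy of `SL₂(p)`. -/
theorem dickson_sl2 {F : Type*} [Field F] [Fintype F] (p : ℕ) [Fact p.Prime] [CharP F p] (hp : p ≠ 2)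
    (H : Subgroup (Matrix.SpecialLinearGroup (Fin 2) F)) (hH : 1 < Nat.card (Sylow p H)) :
    ∃ K : Subgroup (Matrix.SpecialLinearGroup (Fin 2) F), K ≤ H ∧
      Nonempty (K ≃* Matrix.SpecialLinearGroup (Fin 2) (ZMod p)) := by
  classical
  obtain ⟨t₁, ht₁, t₂, ht₂, h₁, h₂, h₁₂⟩ := exists_pair p H hH
  let L := AlgebraicClosure F
  let ι : Matrix.SpecialLinearGroup (Fin 2) F →* Matrix.SpecialLinearGroup (Fin 2) L :=
    Matrix.SpecialLinearGroup.map (algebraMap F L)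
  have hι : Function.Injective ι := map_inj _
  have e₁ : (ι t₁) 0 0 + (ι t₁) 1 1 = 2 := by
    rw [map_entry, map_entry, ← map_add, h₁, map_ofNat]
  have e₂ : (ι t₂) 0 0 + (ι t₂) 1 1 = 2 := by
    rw [map_entry, map_entry, ← map_add, h₂, map_ofNat]
  have e₁₂ : (ι t₁ * ι t₂) 0 0 + (ι t₁ * ι t₂) 1 1 ≠ 2 := by
    rw [← map_mul, map_entry, map_entry, ← map_add]
    intro h
    apply h₁₂
    apply (algebraMap F L).injective
    rw [h, map_ofNat]
  obtain ⟨w, τ, hτ, hw₁, hw₂⟩ := exists_conj_pair (ι t₁) (ι t₂) e₁ e₂ e₁₂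
  let φ : Matrix.SpecialLinearGroup (Fin 2) F →* Matrix.SpecialLinearGroup (Fin 2) L :=
    (MulAut.conj w).toMonoidHom.comp ι
  have hφ : Function.Injective φ := (MulAut.conj w).injective.comp hι
  have hu : uMat 1 ∈ H.map φ := ⟨t₁, ht₁, hw₁⟩
  have hl : lMat τ ∈ H.map φ := ⟨t₂, ht₂, hw₂⟩
  have h2 : (2 : L) ≠ 0 := by
    intro h
    have h' : ((2 : ℕ) : L) = 0 := by exact_mod_cast h
    rw [CharP.cast_eq_zero_iff L p 2] at h'
    exact hp ((Nat.prime_dvd_prime_iff_eq (Fact.out : p.Prime) Nat.prime_two).1 h')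
  have hfin : Finite ↥(H.map φ) := by
    have : (H.map φ : Set (Matrix.SpecialLinearGroup (Fin 2) L)).Finite := by
      rw [Subgroup.coe_map]
      exact (Set.toFinite (H : Set (Matrix.SpecialLinearGroup (Fin 2) F))).image _
    exact this.to_subtype
  let f : ZMod p →+* L := ZMod.castHom (dvd_refl p) L
  have hK' : ∃ K' : Subgroup (Matrix.SpecialLinearGroup (Fin 2) L), K' ≤ H.map φ ∧
      Nonempty (K' ≃* Matrix.SpecialLinearGroup (Fin 2) (ZMod p)) := by
    rcases main_pair h2 (H.map φ) hu τ hτ hl with ⟨h, hh, a1, a2, a3⟩ | ⟨h3, h65⟩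
    · have hdet := det_eq' h
      rw [a1, ← a2] at hdet
      apply exists_sl2p p f (H.map φ) hu (h * h) (mul_mem hh hh) ?_ 2 ?_ ?_
      · rw [mul_apply', mul_apply', a1, ← a2]
        linear_combination 2 * hdet
      · intro h0
        apply h2
        have := congrArg f h0
        rw [map_ofNat, map_zero] at this
        exact this
      · rw [mul_apply', ← a3, ← a2, map_ofNat]
        linear_combination 2 * hdet
    · obtain ⟨x, hx, htr, hx10⟩ := exc_case h3 (H.map φ) hu τ hτ hl h65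
      exact exists_sl2p p f _ hu x hx htr (-1) (neg_ne_zero.2 one_ne_zero)
        (by rw [hx10, map_neg, map_one])
  obtain ⟨K', hK'le, ⟨e⟩⟩ := hK'
  refine ⟨K'.comap φ, ?_, ⟨?_⟩⟩
  · intro x hx
    obtain ⟨h, hh, hhx⟩ := hK'le hx
    rwa [← hφ hhx]
  · have hr : K' ≤ φ.range := fun y hy => by
      obtain ⟨h, _, rfl⟩ := hK'le hy
      exact ⟨h, rfl⟩
    exact ((K'.comap φ).equivMapOfInjective φ hφ).trans
      ((MulEquiv.subgroupCongr (Subgroup.map_comap_eq_self hr)).trans e)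

end Cfsg.Agent.Lib.Helper11.Dickson
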