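import Cfsg.Agent.Lib.Helper11.EA

set_option autoImplicit false

namespace Cfsg.Agent.Lib.Helper11

open Subgroup Cfsg

variable {G G' : Type*} [Group G] [Group G']

theorem map_symm_map (e : G ≃* G') (H : Subgroup G) :
    (H.map e.toMonoidHom).map e.symm.toMonoidHom = H := by
  ext x
  constructor
  · rintro ⟨_, ⟨y, hy, rfl⟩, rfl⟩
    simpa using hy
  · intro hx
    exact ⟨e x, ⟨x, hx, rfl⟩, by simp⟩

theorem map_map_symm (e : G ≃* G') (H : Subgroup G') :
    (H.map e.symm.toMonoidHom).map e.toMonoidHom = H := by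
  ext x
  constructor
  · rintro ⟨_, ⟨y, hy, rfl⟩, rfl⟩
    simpa using hy
  · intro hx
    exact ⟨e.symm x, ⟨x, hx, rfl⟩, by simp⟩

theorem mem_maxElementaryAbelianSubgroups_map {G G' : Type*} [Group G] [Group G'] (p : ℕ) (e : G ≃* G')
    {A : Subgroup G} (hA : A ∈ maxElementaryAbelianSubgroups p G) :
    A.map e.toMonoidHom ∈ maxElementaryAbelianSubgroups p G' := by
  refine ⟨IsElementaryAbelian.map hA.1 _, ?_⟩
  intro B hB
  have h1 := hA.2 (B.map e.symm.toMonoidHom) (IsElementaryAbelian.map hB _)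
  have e1 : Nat.card (B.map e.symm.toMonoidHom) = Nat.card B := card_map_of_injective e.symm.injective
  have e2 : Nat.card (A.map e.toMonoidHom) = Nat.card A := card_map_of_injective e.injective
  rw [e2, ← e1]; exact h1

theorem thompsonSubgroup_map_le {G G' : Type*} [Group G] [Group G'] (p : ℕ) (e : G ≃* G') :
    (thompsonSubgroup p G).map e.toMonoidHom ≤ thompsonSubgroup p G' := by
  unfold thompsonSubgroup
  rw [(gc_map_comap e.toMonoidHom).l_sSup]
  exact iSup₂_le fun A hA => le_sSup (mem_maxElementaryAbelianSubgroups_map p e hA)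

theorem thompsonSubgroup_map {G G' : Type*} [Group G] [Group G'] (p : ℕ) (e : G ≃* G') :
    (thompsonSubgroup p G).map e.toMonoidHom = thompsonSubgroup p G' := by
  apply le_antisymm (thompsonSubgroup_map_le p e)
  have h := Subgroup.map_mono (f := e.toMonoidHom) (thompsonSubgroup_map_le p e.symm)
  rwa [map_map_symm] at h

theorem omegaOne_map (p : ℕ) (e : G ≃* G') (H : Subgroup G) :
    (omegaOne p H).map e.toMonoidHom = omegaOne p (H.map e.toMonoidHom) := by
  unfold omegaOne
  rw [MonoidHom.map_closure]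
  congr 1
  ext x
  constructor
  · rintro ⟨y, ⟨hy1, hy2⟩, rfl⟩
    refine ⟨⟨y, hy1, rfl⟩, ?_⟩
    change (e y) ^ p = 1
    rw [← map_pow, hy2, map_one]
  · rintro ⟨⟨y, hy, rfl⟩, h2⟩
    refine ⟨y, ⟨hy, ?_⟩, rfl⟩
    apply e.injective
    rw [map_pow, map_one]
    exact h2

theorem centralizer_map (e : G ≃* G') (H : Subgroup G) :
    (centralizer (H : Set G)).map e.toMonoidHom = centralizer ((H.map e.toMonoidHom : Subgroup G') : Set G') := by
  ext x
  constructor
  · rintro ⟨y, hy, rfl⟩ _ ⟨z, hz, rfl⟩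
    change e z * e y = e y * e z
    rw [← map_mul, ← map_mul, hy z hz]
  · intro hx
    refine ⟨e.symm x, ?_, by simp⟩
    intro z hz
    apply e.injective
    rw [map_mul, map_mul, e.apply_symm_apply]
    exact hx (e z) ⟨z, hz, rfl⟩

theorem center_map (e : G ≃* G') : (center G).map e.toMonoidHom = center G' := by
  ext x
  constructor
  · rintro ⟨y, hy, rfl⟩
    rw [SetLike.mem_coe, mem_center_iff] at hy
    rw [mem_center_iff]
    intro g
    obtain ⟨g, rfl⟩ := e.surjective g
    change e g * e y = e y * e g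
    rw [← map_mul, ← map_mul, hy g]
  · intro hx
    rw [mem_center_iff] at hx
    refine ⟨e.symm x, ?_, by simp⟩
    rw [SetLike.mem_coe, mem_center_iff]
    intro g
    apply e.injective
    rw [map_mul, map_mul, e.apply_symm_apply]
    exact hx (e g)

theorem map_inf_equiv (e : G ≃* G') (H K : Subgroup G) :
    (H ⊓ K).map e.toMonoidHom = H.map e.toMonoidHom ⊓ K.map e.toMonoidHom :=
  Subgroup.map_inf H K e.toMonoidHom e.injective

theorem omegaCenterThompson_map {G G' : Type*} [Group G] [Group G'] (p : ℕ) (e : G ≃* G') :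
    (omegaCenterThompson p G).map e.toMonoidHom = omegaCenterThompson p G' := by
  unfold omegaCenterThompson
  rw [omegaOne_map, map_inf_equiv, centralizer_map, thompsonSubgroup_map]

end Cfsg.Agent.Lib.Helper11
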