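import Mathlib

/-! small lemmas on `SL₂(K)` (helper11) -/

set_option autoImplicit false

namespace Cfsg.Agent.Lib.Helper11

open Matrix

variable {K : Type*} [Field K]

theorem sl2_sub_one_sq (g : SpecialLinearGroup (Fin 2) K) :
    ((g : Matrix (Fin 2) (Fin 2) K) - 1) * ((g : Matrix (Fin 2) (Fin 2) K) - 1) =
      ((g : Matrix (Fin 2) (Fin 2) K).trace - 2) • (g : Matrix (Fin 2) (Fin 2) K) := by
  have hdet := g.det_coe
  rw [Matrix.det_fin_two] at hdet
  ext i j
  fin_cases i <;> fin_cases j <;>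
    simp [Matrix.mul_apply, Fin.sum_univ_two, Matrix.trace_fin_two] <;>
    first | ring1 | linear_combination (-1 : K) * hdet | linear_combination hdet

theorem sl2_trace_eq_two_of_pow {p : ℕ} [Fact p.Prime] [CharP K p] (g : SpecialLinearGroup (Fin 2) K) (k : ℕ)
    (hg : g ^ (p ^ k) = 1) : (g : Matrix (Fin 2) (Fin 2) K).trace = 2 := by
  set M : Matrix (Fin 2) (Fin 2) K := g.1 with hM
  have hMp : M ^ (p ^ k) = 1 := by
    have := congrArg (fun x : SpecialLinearGroup (Fin 2) K => (x : Matrix (Fin 2) (Fin 2) K)) hg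
    simpa using this
  have h1 : (M - 1) ^ (p ^ k) = 0 := by
    rw [sub_pow_char_pow_of_commute _ _ (Commute.one_right M), hMp, one_pow, sub_self]
  have h2 : ((M - 1) * (M - 1)) ^ (p ^ k) = 0 := by
    rw [(Commute.refl (M - 1)).mul_pow, h1, zero_mul]
  rw [sl2_sub_one_sq, smul_pow, ← hM, hMp] at h2
  have h3 := congrFun (congrFun h2 0) 0
  simp only [Matrix.smul_apply, Matrix.one_apply_eq, smul_eq_mul, mul_one, Matrix.zero_apply] at h3
  exact sub_eq_zero.1 (pow_eq_zero_iff (pow_ne_zero _ (Fact.out : p.Prime).ne_zero) |>.1 h3)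

theorem sl2_sub_one_sq_eq_zero_of_pow {p : ℕ} [Fact p.Prime] [CharP K p] (g : SpecialLinearGroup (Fin 2) K)
    (k : ℕ) (hg : g ^ (p ^ k) = 1) :
    ((g : Matrix (Fin 2) (Fin 2) K) - 1) * ((g : Matrix (Fin 2) (Fin 2) K) - 1) = 0 := by
  rw [sl2_sub_one_sq, sl2_trace_eq_two_of_pow g k hg, sub_self, zero_smul]

theorem sl2_sq (g : SpecialLinearGroup (Fin 2) K) :
    (g : Matrix (Fin 2) (Fin 2) K) * (g : Matrix (Fin 2) (Fin 2) K) =
      (g : Matrix (Fin 2) (Fin 2) K).trace • (g : Matrix (Fin 2) (Fin 2) K) - 1 := by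
  have hdet := g.det_coe
  rw [Matrix.det_fin_two] at hdet
  ext i j
  fin_cases i <;> fin_cases j <;>
    simp [Matrix.mul_apply, Fin.sum_univ_two, Matrix.trace_fin_two] <;>
    first | ring1 | linear_combination (-1 : K) * hdet | linear_combination hdet

/-- an involution of `SL₂(K)` is `-1`. -/
theorem sl2_eq_neg_one_of_sq (h2 : (2 : K) ≠ 0) (g : SpecialLinearGroup (Fin 2) K) (hg : g * g = 1)
    (hg1 : g ≠ 1) : (g : Matrix (Fin 2) (Fin 2) K) = -1 := by
  set M : Matrix (Fin 2) (Fin 2) K := g.1 with hM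
  have hMM : M * M = 1 := by
    have := congrArg (fun x : SpecialLinearGroup (Fin 2) K => (x : Matrix (Fin 2) (Fin 2) K)) hg
    simpa using this
  have h1 := sl2_sq g
  rw [← hM, hMM] at h1
  have hdet := g.det_coe
  rw [Matrix.det_fin_two] at hdet
  have e00 := congrFun (congrFun h1 0) 0
  have e01 := congrFun (congrFun h1 0) 1
  have e10 := congrFun (congrFun h1 1) 0
  have e11 := congrFun (congrFun h1 1) 1
  simp only [Matrix.one_apply_eq, Matrix.sub_apply, Matrix.smul_apply, smul_eq_mul, Matrix.trace_fin_two,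
    Matrix.one_apply_ne (show (0 : Fin 2) ≠ 1 by decide), Matrix.one_apply_ne (show (1 : Fin 2) ≠ 0 by decide),
    sub_zero] at e00 e01 e10 e11
  have ht : M 0 0 + M 1 1 ≠ 0 := by
    intro h
    rw [h, zero_mul] at e00
    apply h2
    linear_combination e00
  have h01 : M 0 1 = 0 := by
    rcases mul_eq_zero.1 e01.symm with h | h
    · exact absurd h ht
    · exact h
  have h10 : M 1 0 = 0 := by
    rcases mul_eq_zero.1 e10.symm with h | h
    · exact absurd h ht
    · exact h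
  have hdd : M 0 0 = M 1 1 := by
    have : (M 0 0 + M 1 1) * (M 0 0 - M 1 1) = 0 := by linear_combination e11 - e00
    rcases mul_eq_zero.1 this with h | h
    · exact absurd h ht
    · exact sub_eq_zero.1 h
  have hsq : (M 0 0 - 1) * (M 0 0 + 1) = 0 := by
    have hdet' : M 0 0 * M 1 1 - M 0 1 * M 1 0 = 1 := hdet
    rw [h01, zero_mul, sub_zero, ← hdd] at hdet'
    linear_combination hdet'
  rcases mul_eq_zero.1 hsq with h | h
  · exfalso
    apply hg1
    apply Subtype.ext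
    change M = 1
    ext i j
    fin_cases i <;> fin_cases j
    · simpa using sub_eq_zero.1 h
    · simpa using h01
    · simpa using h10
    · simp only [Fin.mk_one, Fin.isValue, Matrix.one_apply_eq]
      rw [← hdd]; exact sub_eq_zero.1 h
  · ext i j
    fin_cases i <;> fin_cases j
    · simpa using eq_neg_of_add_eq_zero_left h
    · simpa using h01
    · simpa using h10
    · simp only [Fin.mk_one, Fin.isValue, Matrix.neg_apply, Matrix.one_apply_eq]
      rw [← hdd]; exact eq_neg_of_add_eq_zero_left h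

/-- an element of order four of `SL₂(K)` has trace zero. -/
theorem sl2_trace_eq_zero_of_order_four (h2 : (2 : K) ≠ 0) (g : SpecialLinearGroup (Fin 2) K)
    (hg4 : (g * g) * (g * g) = 1) (hg2 : g * g ≠ 1) : (g : Matrix (Fin 2) (Fin 2) K).trace = 0 := by
  have h1 := sl2_eq_neg_one_of_sq h2 (g * g) hg4 hg2
  have h0 : ((g * g : SpecialLinearGroup (Fin 2) K) : Matrix (Fin 2) (Fin 2) K) =
      (g : Matrix (Fin 2) (Fin 2) K) * (g : Matrix (Fin 2) (Fin 2) K) := rfl
  rw [h0, sl2_sq] at h1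
  have h3 : (g : Matrix (Fin 2) (Fin 2) K).trace • (g : Matrix (Fin 2) (Fin 2) K) = 0 := by
    have : (g : Matrix (Fin 2) (Fin 2) K).trace • (g : Matrix (Fin 2) (Fin 2) K) =
        ((g : Matrix (Fin 2) (Fin 2) K).trace • (g : Matrix (Fin 2) (Fin 2) K) - 1) + 1 := by abel
    rw [this, h1]; simp
  by_contra ht
  have h4 : (g : Matrix (Fin 2) (Fin 2) K) = 0 := by
    rcases smul_eq_zero.1 h3 with h | h
    · exact absurd h ht
    · exact h
  have hdet := g.det_coe
  rw [h4] at hdet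
  simp at hdet

/-- polarised Cayley–Hamilton for trace zero matrices. -/
theorem anticomm_of_trace_zero (N₁ N₂ : Matrix (Fin 2) (Fin 2) K) (h₁ : N₁.trace = 0) (h₂ : N₂.trace = 0) :
    N₁ * N₂ + N₂ * N₁ = (N₁ * N₂).trace • (1 : Matrix (Fin 2) (Fin 2) K) := by
  rw [Matrix.trace_fin_two] at h₁ h₂
  have e1 : N₁ 1 1 = - N₁ 0 0 := by linear_combination h₁
  have e2 : N₂ 1 1 = - N₂ 0 0 := by linear_combination h₂
  ext i j
  fin_cases i <;> fin_cases j <;>
    simp [Matrix.mul_apply, Fin.sum_univ_two, Matrix.trace_fin_two, e1, e2] <;> ring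

/-- upper unitriangular matrices -/
def uMat (c : K) : SpecialLinearGroup (Fin 2) K := ⟨!![1, c; 0, 1], by simp [Matrix.det_fin_two]⟩

/-- lower unitriangular matrices -/
def lMat (c : K) : SpecialLinearGroup (Fin 2) K := ⟨!![1, 0; c, 1], by simp [Matrix.det_fin_two]⟩

theorem coe_uMat (c : K) : ((uMat c : SpecialLinearGroup (Fin 2) K) : Matrix (Fin 2) (Fin 2) K) = !![1, c; 0, 1] := rfl

theorem coe_lMat (c : K) : ((lMat c : SpecialLinearGroup (Fin 2) K) : Matrix (Fin 2) (Fin 2) K) = !![1, 0; c, 1] := rfl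

theorem coe_uMat_inv (c : K) :
    (((uMat c)⁻¹ : SpecialLinearGroup (Fin 2) K) : Matrix (Fin 2) (Fin 2) K) = !![1, -c; 0, 1] := by
  rw [Matrix.SpecialLinearGroup.coe_inv, coe_uMat, Matrix.adjugate_fin_two]
  simp

theorem coe_lMat_inv (c : K) :
    (((lMat c)⁻¹ : SpecialLinearGroup (Fin 2) K) : Matrix (Fin 2) (Fin 2) K) = !![1, 0; -c, 1] := by
  rw [Matrix.SpecialLinearGroup.coe_inv, coe_lMat, Matrix.adjugate_fin_two]
  simp

theorem trace_mul_conj_uMat (g : SpecialLinearGroup (Fin 2) K)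
    (ht : (g : Matrix (Fin 2) (Fin 2) K).trace = 2) :
    ((g * (uMat 1 * g * (uMat 1)⁻¹) : SpecialLinearGroup (Fin 2) K) : Matrix (Fin 2) (Fin 2) K).trace =
      2 - (g : Matrix (Fin 2) (Fin 2) K) 1 0 ^ 2 := by
  have hdet := g.det_coe
  rw [Matrix.det_fin_two] at hdet
  rw [Matrix.trace_fin_two] at ht
  simp only [Matrix.SpecialLinearGroup.coe_mul, coe_uMat, coe_uMat_inv,
    Matrix.trace_fin_two, Matrix.mul_apply, Fin.sum_univ_two, Matrix.of_apply, Matrix.cons_val', Matrix.cons_val_zero,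
    Matrix.cons_val_one, Matrix.cons_val_fin_one]
  linear_combination (-2 : K) * hdet + ((g : Matrix (Fin 2) (Fin 2) K) 0 0 + (g : Matrix (Fin 2) (Fin 2) K) 1 1 + 2) * ht

theorem trace_mul_conj_lMat (g : SpecialLinearGroup (Fin 2) K)
    (ht : (g : Matrix (Fin 2) (Fin 2) K).trace = 2) :
    ((g * (lMat 1 * g * (lMat 1)⁻¹) : SpecialLinearGroup (Fin 2) K) : Matrix (Fin 2) (Fin 2) K).trace =
      2 - (g : Matrix (Fin 2) (Fin 2) K) 0 1 ^ 2 := by
  have hdet := g.det_coe
  rw [Matrix.det_fin_two] at hdet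
  rw [Matrix.trace_fin_two] at ht
  simp only [Matrix.SpecialLinearGroup.coe_mul, coe_lMat, coe_lMat_inv,
    Matrix.trace_fin_two, Matrix.mul_apply, Fin.sum_univ_two, Matrix.of_apply, Matrix.cons_val', Matrix.cons_val_zero,
    Matrix.cons_val_one, Matrix.cons_val_fin_one]
  linear_combination (-2 : K) * hdet + ((g : Matrix (Fin 2) (Fin 2) K) 0 0 + (g : Matrix (Fin 2) (Fin 2) K) 1 1 + 2) * ht

/-- `O_p(SL₂(K)) = 1` in characteristic `p`. -/
theorem sl2_normal_pGroup_eq_bot {p : ℕ} [Fact p.Prime] [CharP K p] (N : Subgroup (SpecialLinearGroup (Fin 2) K))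
    [hN : N.Normal] (hNp : IsPGroup p N) : N = ⊥ := by
  have htr : ∀ g ∈ N, (g : Matrix (Fin 2) (Fin 2) K).trace = 2 := by
    intro g hg
    obtain ⟨k, hk⟩ := hNp ⟨g, hg⟩
    exact sl2_trace_eq_two_of_pow g k (congrArg Subtype.val hk)
  rw [eq_bot_iff]
  intro g hg
  rw [Subgroup.mem_bot]
  have h1 := htr _ (N.mul_mem hg (hN.conj_mem g hg (uMat 1)))
  have h2 := htr _ (N.mul_mem hg (hN.conj_mem g hg (lMat 1)))
  rw [trace_mul_conj_uMat g (htr g hg)] at h1
  rw [trace_mul_conj_lMat g (htr g hg)] at h2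
  have h10 : (g : Matrix (Fin 2) (Fin 2) K) 1 0 = 0 := by
    have : (g : Matrix (Fin 2) (Fin 2) K) 1 0 ^ 2 = 0 := by linear_combination -h1
    exact pow_eq_zero_iff (two_ne_zero) |>.1 this
  have h01 : (g : Matrix (Fin 2) (Fin 2) K) 0 1 = 0 := by
    have : (g : Matrix (Fin 2) (Fin 2) K) 0 1 ^ 2 = 0 := by linear_combination -h2
    exact pow_eq_zero_iff (two_ne_zero) |>.1 this
  have hdet := g.det_coe
  rw [Matrix.det_fin_two, h01, zero_mul, sub_zero] at hdet
  have ht := htr g hg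
  rw [Matrix.trace_fin_two] at ht
  have h00 : (g : Matrix (Fin 2) (Fin 2) K) 0 0 = 1 := by
    have : ((g : Matrix (Fin 2) (Fin 2) K) 0 0 - 1) ^ 2 = 0 := by
      linear_combination (g : Matrix (Fin 2) (Fin 2) K) 0 0 * ht - hdet
    exact sub_eq_zero.1 (pow_eq_zero_iff (two_ne_zero) |>.1 this)
  have h11 : (g : Matrix (Fin 2) (Fin 2) K) 1 1 = 1 := by
    rw [h00] at ht; linear_combination ht
  apply Subtype.ext
  ext i j
  fin_cases i <;> fin_cases j
  · simpa using h00
  · simpa using h01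
  · simpa using h10
  · simpa using h11

end Cfsg.Agent.Lib.Helper11
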