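import Mathlib
import Cfsg.Prelude.Def_Local
import Cfsg.Agent.Lib.Helper1.Fitting
import Cfsg.Agent.Lib.Lead.Cores
import Cfsg.Agent.S0044

/-! solvable groups are `p`-solvable (helper11) -/

set_option autoImplicit false

namespace Cfsg.Agent.Lib.Helper11

open Subgroup Cfsg

universe u

/-- in a solvable group with `O_{p'} = 1`, `O_p` contains its centralizer (copied from helper82, lighter imports). -/
theorem centralizer_pCore_le_of_isSolvable' {G : Type*} [Group G] [Finite G] (p : ℕ) [Fact p.Prime]
    [Group.IsSolvable G] (hcore : pPrimeCore p G = ⊥) :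
    Subgroup.centralizer ((pCore p G) : Set G) ≤ pCore p G := by
  have hF : fittingSubgroup G = pCore p G := by
    rw [Cfsg.Agent.Lib.Helper1.fittingSubgroup_eq_iSup_pCore]
    apply le_antisymm
    · refine iSup_le fun q => ?_
      by_cases hq : (q : ℕ) = p
      · rw [hq]
      · have hqp : IsPGroup (q : ℕ) (pCore (q : ℕ) G) := Cfsg.Agent.Lib.Lead.pCore_isPGroup _ G
        have : Fact (q : ℕ).Prime := ⟨q.2⟩
        obtain ⟨k, hk⟩ := IsPGroup.iff_card.mp hqp
        have hcop : (Nat.card (pCore (q : ℕ) G)).Coprime p := by
          rw [hk]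
          exact Nat.Coprime.pow_left k ((Nat.coprime_primes q.2 (Fact.out : p.Prime)).2 hq)
        have := Cfsg.Agent.Lib.Lead.le_pPrimeCore (Cfsg.Agent.Lib.Lead.pCore_normal' (q : ℕ) G) hcop
        rw [hcore] at this
        exact this.trans bot_le
    · exact le_iSup (fun q : Nat.Primes => pCore (q : ℕ) G) ⟨p, Fact.out⟩
  have := Cfsg.Agent.S0044.result (G := G)
  rwa [hF] at this

/-- extension lemma for `p`-solvability. -/
theorem isPSolvable_of_extension {G : Type*} [Group G] {p : ℕ} (N : Subgroup G) [N.Normal]
    (hN : (∃ m : ℕ, Nat.card N = p ^ m) ∨ (Nat.card N).Coprime p)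
    (h : IsPSolvable p (G ⧸ N)) : IsPSolvable p G := by
  obtain ⟨n, H, h0, hlast, hmono, hnorm, hstep⟩ := h
  refine ⟨n + 1, Fin.cons ⊥ (fun i => (H i).comap (QuotientGroup.mk' N)), ?_, ?_, ?_, ?_, ?_⟩
  · rfl
  · have : Fin.last (n + 1) = (Fin.last n).succ := rfl
    rw [this, Fin.cons_succ, hlast, comap_top]
  · intro i j hij
    induction i using Fin.cases with
    | zero => simp
    | succ i =>
      induction j using Fin.cases with
      | zero => exact absurd hij (by simp)
      | succ j =>
        simp only [Fin.cons_succ]
        exact comap_mono (hmono (Fin.succ_le_succ_iff.1 hij))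
  · intro i
    induction i using Fin.cases with
    | zero => simp only [Fin.cons_zero]; infer_instance
    | succ i =>
      simp only [Fin.cons_succ]
      exact (hnorm i).comap _
  · intro i
    induction i using Fin.cases with
    | zero =>
      have e1 : (Fin.cons ⊥ (fun i => (H i).comap (QuotientGroup.mk' N)) : Fin (n + 1 + 1) → Subgroup G)
          (Fin.castSucc (0 : Fin (n + 1))) = ⊥ := rfl
      have e2 : (Fin.cons ⊥ (fun i => (H i).comap (QuotientGroup.mk' N)) : Fin (n + 1 + 1) → Subgroup G)
          (Fin.succ (0 : Fin (n + 1))) = N := by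
        rw [Fin.cons_succ, h0]
        change (QuotientGroup.mk' N).ker = N
        exact QuotientGroup.ker_mk' N
      rw [e1, e2, relIndex_bot_left]
      exact hN
    | succ i =>
      have e1 : (Fin.cons ⊥ (fun i => (H i).comap (QuotientGroup.mk' N)) : Fin (n + 1 + 1) → Subgroup G)
          (Fin.castSucc (Fin.succ i)) = (H i.castSucc).comap (QuotientGroup.mk' N) := by
        rw [← Fin.succ_castSucc, Fin.cons_succ]
      have e2 : (Fin.cons ⊥ (fun i => (H i).comap (QuotientGroup.mk' N)) : Fin (n + 1 + 1) → Subgroup G)
          (Fin.succ (Fin.succ i)) = (H i.succ).comap (QuotientGroup.mk' N) := by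
        rw [Fin.cons_succ]
      have e3 : ((H i.castSucc).comap (QuotientGroup.mk' N)).relIndex
          ((H i.succ).comap (QuotientGroup.mk' N)) = (H i.castSucc).relIndex (H i.succ) := by
        rw [relIndex_comap, map_comap_eq_self_of_surjective (QuotientGroup.mk'_surjective N)]
      rw [e1, e2, e3]
      exact hstep i

theorem isPSolvable_of_isSolvable_aux (p : ℕ) [Fact p.Prime] : ∀ (n : ℕ) (G : Type u) [Group G] [Finite G],
    Nat.card G = n → Group.IsSolvable G → IsPSolvable p G := by
  intro n
  induction n using Nat.strong_induction_on with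
  | _ n ih =>
    intro G _ _ hn hs
    by_cases htriv : Subsingleton G
    · refine ⟨0, fun _ => ⊥, rfl, ?_, fun _ _ _ => le_rfl, fun _ => inferInstance, fun i => i.elim0⟩
      exact (Subsingleton.elim _ _)
    · have key : ∀ N : Subgroup G, N.Normal → N ≠ ⊥ →
          ((∃ m : ℕ, Nat.card N = p ^ m) ∨ (Nat.card N).Coprime p) → IsPSolvable p G := by
        intro N hNn hN1 hN
        apply isPSolvable_of_extension N hN
        apply ih (Nat.card (G ⧸ N)) _ (G ⧸ N) rfl inferInstance
        rw [← hn, ← Subgroup.index_eq_card, ← Subgroup.card_mul_index N]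
        have h1 : 1 < Nat.card N := by
          rw [Finite.one_lt_card_iff_nontrivial]
          exact (Subgroup.nontrivial_iff_ne_bot N).2 hN1
        have h2 : 0 < N.index := Nat.pos_of_ne_zero Subgroup.index_ne_zero_of_finite
        nlinarith
      by_cases h1 : pPrimeCore p G = ⊥
      · have h2 := centralizer_pCore_le_of_isSolvable' p h1
        apply key (pCore p G) inferInstance
        · intro h3
          apply htriv
          rw [h3] at h2
          have h4 : (⊤ : Subgroup G) ≤ ⊥ := by
            refine le_trans ?_ h2
            intro x _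
            rw [mem_centralizer_iff]
            intro y hy
            rw [SetLike.mem_coe, mem_bot] at hy
            rw [hy]; simp
          exact Subgroup.subsingleton_iff.1 ⟨fun a b => by
            have ha : a = ⊥ := le_antisymm (le_top.trans h4) bot_le
            have hb : b = ⊥ := le_antisymm (le_top.trans h4) bot_le
            rw [ha, hb]⟩
        · left
          exact IsPGroup.iff_card.1 (Cfsg.Agent.Lib.Lead.pCore_isPGroup p G)
      · exact key (pPrimeCore p G) inferInstance h1 (Or.inr (Cfsg.Agent.Lib.Lead.card_pPrimeCore_coprime p))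

theorem isPSolvable_of_isSolvable {G : Type u} [Group G] [Finite G] (p : ℕ) [Fact p.Prime]
    (hs : Group.IsSolvable G) : IsPSolvable p G :=
  isPSolvable_of_isSolvable_aux p _ G rfl hs

end Cfsg.Agent.Lib.Helper11
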